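import Mathlib
import Groth.Agent.DVRDom.Basic

/-! Discrete valuation rings of finitely generated field extensions dominating a local ring. -/

set_option autoImplicit false

universe u

namespace Groth.Agent.ValExtLib

open IsLocalRing

variable {A L : Type u} [CommRing A] [Field L] [Algebra A L]

/-- A subalgebra containing field generators has fraction field `L`. -/
theorem exists_div_of_generators {K : Type u} [Field K] [Algebra A K] [IsFractionRing A K] [Algebra K L]
    [IsScalarTower A K L] {s : Set L} (hs : IntermediateField.adjoin K s = ⊤) (S : Subalgebra A L)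
    (hsS : ∀ x ∈ s, ∃ a ∈ S, ∃ b ∈ S, b ≠ 0 ∧ x = a / b) (x : L) :
    ∃ a ∈ S, ∃ b ∈ S, b ≠ 0 ∧ x = a / b := by
  let F : IntermediateField K L :=
    { carrier := {x | ∃ a ∈ S, ∃ b ∈ S, b ≠ 0 ∧ x = a / b}
      mul_mem' := by
        rintro _ _ ⟨a, ha, b, hb, hb0, rfl⟩ ⟨a', ha', b', hb', hb0', rfl⟩
        exact ⟨a * a', mul_mem ha ha', b * b', mul_mem hb hb', mul_ne_zero hb0 hb0', div_mul_div_comm a b a' b'⟩
      add_mem' := by
        rintro _ _ ⟨a, ha, b, hb, hb0, rfl⟩ ⟨a', ha', b', hb', hb0', rfl⟩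
        exact ⟨a * b' + b * a', add_mem (mul_mem ha hb') (mul_mem hb ha'), b * b', mul_mem hb hb',
          mul_ne_zero hb0 hb0', div_add_div a a' hb0 hb0'⟩
      algebraMap_mem' := fun k ↦ by
        have : Nontrivial A := (algebraMap A L).domain_nontrivial
        obtain ⟨a, b, hb, rfl⟩ := IsFractionRing.div_surjective A k
        refine ⟨algebraMap A L a, S.algebraMap_mem a, algebraMap A L b, S.algebraMap_mem b, ?_, ?_⟩
        · rw [IsScalarTower.algebraMap_apply A K L]
          exact (map_ne_zero _).mpr (IsFractionRing.to_map_ne_zero_of_mem_nonZeroDivisors hb)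
        · rw [map_div₀, ← IsScalarTower.algebraMap_apply, ← IsScalarTower.algebraMap_apply]
      inv_mem' := by
        rintro _ ⟨a, ha, b, hb, hb0, rfl⟩
        rcases eq_or_ne a 0 with rfl | ha0
        · exact ⟨0, zero_mem _, 1, one_mem _, one_ne_zero, by simp⟩
        · exact ⟨b, hb, a, ha, ha0, inv_div a b⟩ }
  have hF : F = ⊤ := top_le_iff.mp (hs.ge.trans (IntermediateField.adjoin_le_iff.mpr hsS))
  exact (show x ∈ F from hF ▸ trivial)

/-- An integral polynomial model: a finitely generated subalgebra with fraction field `L` having a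
prime over the maximal ideal of `A`. -/
theorem exists_model [IsDomain A] [IsLocalRing A] (K : Type u) [Field K] [Algebra A K] [IsFractionRing A K]
    [Algebra K L] [IsScalarTower A K L] (hfg : (⊤ : IntermediateField K L).FG) :
    ∃ (S : Subalgebra A L) (Q : Ideal S), S.FG ∧ Q.IsPrime ∧ IsFractionRing S L ∧
      Q.comap (algebraMap A S) = maximalIdeal A := by
  classical
  obtain ⟨s, hs⟩ := hfg
  have hinj : Function.Injective (algebraMap A L) := by
    rw [IsScalarTower.algebraMap_eq A K L]
    exact (algebraMap K L).injective.comp (IsFractionRing.injective A K)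
  have : FaithfulSMul A L := (faithfulSMul_iff_algebraMap_injective A L).mpr hinj
  have : Algebra.IsAlgebraic (Algebra.adjoin A (s : Set L)) L := by
    refine ⟨fun x ↦ ?_⟩
    obtain ⟨a, ha, b, hb, hb0, rfl⟩ := exists_div_of_generators (A := A) hs (Algebra.adjoin A (s : Set L))
      (fun y hy ↦ ⟨y, Algebra.subset_adjoin hy, 1, one_mem _, one_ne_zero, (div_one y).symm⟩) x
    refine ⟨Polynomial.C ⟨b, hb⟩ * Polynomial.X - Polynomial.C ⟨a, ha⟩, fun h ↦ ?_, ?_⟩
    · have := congrArg (fun p ↦ Polynomial.coeff p 1) h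
      simp at this
      exact hb0 (congrArg Subtype.val this)
    · simp [Polynomial.aeval_def, mul_div_cancel₀ _ hb0]
  obtain ⟨t, hts, ht⟩ := exists_isTranscendenceBasis_subset (R := A) (s : Set L)
  let P := Algebra.adjoin A t
  have : Algebra.IsAlgebraic P L := by
    have h := ht.isAlgebraic
    rw [show Set.range ((↑) : t → L) = t from Subtype.range_coe] at h
    exact h
  obtain ⟨y, hy0, hy⟩ := Algebra.IsAlgebraic.exists_integral_multiples (R := P) s
  let gen : Finset L := (s.filter (· ∈ t)) ∪ s.image fun z ↦ (y • z : L)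
  let S := Algebra.adjoin A (gen : Set L)
  have htS : t ⊆ (S : Set L) := fun z hz ↦ Algebra.subset_adjoin
    (Finset.mem_union_left _ (Finset.mem_filter.mpr ⟨hts hz, hz⟩))
  have hPS : P ≤ S := Algebra.adjoin_le htS
  have hy0' : (y : L) ≠ 0 := fun h ↦ hy0 (Subtype.ext h)
  have hfrac : ∀ x : L, ∃ a ∈ S, ∃ b ∈ S, b ≠ 0 ∧ x = a / b :=
    exists_div_of_generators hs S fun z hz ↦ ⟨(y • z : L),
      Algebra.subset_adjoin (Finset.mem_union_right _ (Finset.mem_image_of_mem _ hz)), (y : L),
      hPS y.2, hy0', by rw [show (y • z : L) = (y : L) * z from rfl, mul_div_cancel_left₀ _ hy0']⟩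
  letI : Algebra P S := (Subalgebra.inclusion hPS).toRingHom.toAlgebra
  have : IsScalarTower A P S := IsScalarTower.of_algebraMap_eq fun _ ↦ rfl
  have : IsScalarTower P S L := IsScalarTower.of_algebraMap_eq fun _ ↦ rfl
  have : Algebra.IsIntegral P S := by
    refine ⟨fun ⟨x, hx⟩ ↦ ?_⟩
    refine (isIntegral_algHom_iff (IsScalarTower.toAlgHom P S L) Subtype.val_injective).mp ?_
    show IsIntegral P x
    induction hx using Algebra.adjoin_induction with
    | mem z hz =>
      rcases Finset.mem_union.mp (Finset.mem_coe.mp hz) with hz | hz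
      · exact isIntegral_algebraMap (R := P) (x := ⟨z, Algebra.subset_adjoin (Finset.mem_filter.mp hz).2⟩)
      · obtain ⟨w, hw, rfl⟩ := Finset.mem_image.mp hz
        exact hy w hw
    | algebraMap r => exact isIntegral_algebraMap (R := P) (x := algebraMap A P r)
    | add a b _ _ ha hb => exact ha.add hb
    | mul a b _ _ ha hb => exact ha.mul hb
  let e : MvPolynomial t A →+* P :=
    ((MvPolynomial.aeval ((↑) : t → L)).codRestrict P (fun q ↦ by
      rw [show P = Algebra.adjoin A (Set.range ((↑) : t → L)) by rw [Subtype.range_coe],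
        Algebra.adjoin_range_eq_range_aeval]
      exact ⟨q, rfl⟩)).toRingHom
  have he : Function.Bijective e := by
    refine ⟨fun a b h ↦ ht.1 (congrArg Subtype.val h), fun ⟨x, hx⟩ ↦ ?_⟩
    have : x ∈ Algebra.adjoin A (Set.range ((↑) : t → L)) := by rwa [Subtype.range_coe]
    rw [Algebra.adjoin_range_eq_range_aeval] at this
    obtain ⟨q, hq⟩ := this
    exact ⟨q, Subtype.ext hq⟩
  let ev : P →+* ResidueField A := ((residue A).comp (MvPolynomial.constantCoeff)).comp
    (RingEquiv.ofBijective e he).symm.toRingHom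
  have hev : ev.comp (algebraMap A P) = residue A := by
    refine RingHom.ext fun a ↦ ?_
    have : (RingEquiv.ofBijective e he).symm (algebraMap A P a) = MvPolynomial.C a :=
      (RingEquiv.symm_apply_eq _).mpr (Subtype.ext (by simp [e]))
    simp [ev, this]
  have hp := RingHom.ker_isPrime ev
  have hcomap : (RingHom.ker ev).comap (algebraMap A P) = maximalIdeal A := by
    rw [RingHom.comap_ker, hev, ker_residue]
  obtain ⟨Q, -, hQ, hQp⟩ := Ideal.exists_ideal_over_prime_of_isIntegral (RingHom.ker ev) (⊥ : Ideal S)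
    (fun a ha ↦ by
      have : a = 0 := Subalgebra.inclusion_injective hPS (ha.trans (map_zero _).symm)
      rw [this]; exact zero_mem _)
  refine ⟨S, Q, Subalgebra.fg_adjoin_finset gen, hQ, ?_, ?_⟩
  · have : FaithfulSMul S L := (faithfulSMul_iff_algebraMap_injective S L).mpr Subtype.val_injective
    refine IsFractionRing.of_field S L fun x ↦ ?_
    obtain ⟨a, ha, b, hb, -, rfl⟩ := hfrac x
    exact ⟨⟨a, ha⟩, ⟨b, hb⟩, rfl⟩
  · rw [IsScalarTower.algebraMap_eq A P S, ← Ideal.comap_comap, hQp, hcomap]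

/-- The pullback of a discrete valuation ring along a field homomorphism is a principal ideal ring. -/
theorem exists_valuationSubring_comap {R : Type u} [CommRing R] [IsDomain R] [IsDiscreteValuationRing R]
    (F : L →+* FractionRing R) :
    ∃ V : ValuationSubring L, IsPrincipalIdealRing V ∧
      (∀ x, x ∈ V ↔ ∃ r, algebraMap R (FractionRing R) r = F x) ∧
      ∀ x r, algebraMap R (FractionRing R) r = F x → r ∈ maximalIdeal R → V.valuation x < 1 := by
  classical
  have hi : Function.Injective (algebraMap R (FractionRing R)) := IsFractionRing.injective R _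
  let W : ValuationSubring (FractionRing R) :=
    { (algebraMap R (FractionRing R)).range with
      mem_or_inv_mem' := fun x ↦ ValuationRing.isInteger_or_isInteger R x }
  let V := W.comap F
  have hV : ∀ x, x ∈ V ↔ ∃ r, algebraMap R (FractionRing R) r = F x := fun x ↦ Iff.rfl
  refine ⟨V, ⟨fun I ↦ ?_⟩, hV, fun x r hr hm ↦ ?_⟩
  · rcases eq_or_ne I ⊥ with rfl | hI
    · exact ⟨0, by simp⟩
    choose g hg using fun y : V ↦ (hV y.1).mp y.2
    obtain ⟨y₀, hy₀I, hy₀⟩ := Submodule.exists_mem_ne_zero_of_ne_bot hI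
    have hg0 : ∀ y : V, y ≠ 0 → g y ≠ 0 := fun y hy h ↦ hy (Subtype.ext (F.injective (by
      rw [← hg y, h, map_zero]; exact (map_zero F).symm)))
    have hex : ∃ n : ℕ, ∃ y ∈ I, y ≠ 0 ∧ IsDiscreteValuationRing.addVal R (g y) = n := by
      have : IsDiscreteValuationRing.addVal R (g y₀) ≠ ⊤ := by
        rw [Ne, IsDiscreteValuationRing.addVal_eq_top_iff]; exact hg0 y₀ hy₀
      obtain ⟨n, hn⟩ := ENat.ne_top_iff_exists.mp this
      exact ⟨n, y₀, hy₀I, hy₀, hn.symm⟩
    obtain ⟨y, hyI, hy, hyn⟩ := Nat.find_spec hex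
    refine ⟨y, le_antisymm (fun x hx ↦ ?_) ((Submodule.span_singleton_le_iff_mem _ _).mpr hyI)⟩
    rcases eq_or_ne x 0 with rfl | hx0
    · exact zero_mem _
    have hle : IsDiscreteValuationRing.addVal R (g y) ≤ IsDiscreteValuationRing.addVal R (g x) := by
      have : IsDiscreteValuationRing.addVal R (g x) ≠ ⊤ := by
        rw [Ne, IsDiscreteValuationRing.addVal_eq_top_iff]; exact hg0 x hx0
      obtain ⟨m, hm⟩ := ENat.ne_top_iff_exists.mp this
      rw [hyn, ← hm]
      exact_mod_cast Nat.find_min' hex ⟨x, hx, hx0, hm.symm⟩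
    obtain ⟨c, hc⟩ := IsDiscreteValuationRing.addVal_le_iff_dvd.mp hle
    have hyL : (y : L) ≠ 0 := fun h ↦ hy (Subtype.ext h)
    have hq : (x : L) / y ∈ V := (hV _).mpr ⟨c, by
      rw [map_div₀, ← hg x, ← hg y, hc, map_mul, mul_div_cancel_left₀]
      exact (map_ne_zero_iff _ hi).mpr (hg0 y hy)⟩
    refine Submodule.mem_span_singleton.mpr ⟨⟨_, hq⟩, Subtype.ext ?_⟩
    exact div_mul_cancel₀ (x : L) hyL
  · by_contra h
    have hle : V.valuation x ≤ 1 := (V.valuation_le_one_iff x).mpr ((hV x).mpr ⟨r, hr⟩)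
    obtain ⟨⟨u, rfl⟩⟩ : Nonempty {u : Vˣ // ((u : V) : L) = x} := by
      obtain ⟨u, hu⟩ := (V.valuation_eq_one_iff ⟨x, (hV x).mpr ⟨r, hr⟩⟩).mpr (le_antisymm hle (not_lt.mp h))
      exact ⟨⟨u, congrArg Subtype.val hu⟩⟩
    obtain ⟨r', hr'⟩ := (hV _).mp (u⁻¹ : Vˣ).val.2
    refine (mem_maximalIdeal r).mp hm (isUnit_iff_exists_inv.mpr ⟨r', hi ?_⟩)
    rw [map_mul, hr, hr', ← map_mul, map_one]
    show F (((u : V) * ((u⁻¹ : Vˣ) : V) : V) : L) = 1
    rw [Units.mul_inv]
    exact map_one F

theorem exists_dvr_dominating [IsDomain A] [IsNoetherianRing A] [IsLocalRing A] (hA : ¬ IsField A)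
    (K : Type u) [Field K] [Algebra A K] [IsFractionRing A K] [Algebra K L] [IsScalarTower A K L]
    (hfg : (⊤ : IntermediateField K L).FG) :
    ∃ R : ValuationSubring L, IsDiscreteValuationRing R ∧ (∀ a : A, algebraMap A L a ∈ R) ∧
      ∀ a ∈ maximalIdeal A, R.valuation (algebraMap A L a) < 1 := by
  obtain ⟨S, Q, hS, hQ, hSL, hQm⟩ := exists_model (A := A) K hfg
  have : Algebra.FiniteType A S := (Subalgebra.fg_iff_finiteType S).mp hS
  have : IsNoetherianRing S := Algebra.FiniteType.isNoetherianRing A S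
  let B := Localization.AtPrime Q
  obtain ⟨a₀, ha₀, ha₀0⟩ := Submodule.exists_mem_ne_zero_of_ne_bot
    (fun h ↦ hA (IsLocalRing.isField_iff_maximalIdeal_eq.mpr h) : maximalIdeal A ≠ ⊥)
  have hAL : Function.Injective (algebraMap A L) := by
    rw [IsScalarTower.algebraMap_eq A K L]
    exact (algebraMap K L).injective.comp (IsFractionRing.injective A K)
  have hmB : ∀ a ∈ maximalIdeal A, algebraMap S B (algebraMap A S a) ∈ maximalIdeal B := fun a ha ↦
    (IsLocalization.AtPrime.to_map_mem_maximal_iff B Q _).mpr (by rw [← hQm] at ha; exact ha)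
  have hSB : Function.Injective (algebraMap S B) := IsLocalization.injective B Q.primeCompl_le_nonZeroDivisors
  have hB : ¬ IsField B := fun hf ↦ by
    rw [IsLocalRing.isField_iff_maximalIdeal_eq] at hf
    have h := hmB a₀ ha₀
    rw [hf, Submodule.mem_bot, map_eq_zero_iff _ hSB] at h
    exact ha₀0 (hAL ((congrArg Subtype.val h).trans (map_zero _).symm))
  obtain ⟨R, _, _, _, f, hf, hfl⟩ := Groth.Agent.DVRDom.exists_dvr B hB
  let g : S →+* FractionRing R := (algebraMap R (FractionRing R)).comp (f.comp (algebraMap S B))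
  have hg : Function.Injective g := (IsFractionRing.injective R _).comp (hf.comp hSB)
  let F : L →+* FractionRing R := IsFractionRing.lift hg
  have hF : ∀ x : S, F (algebraMap S L x) = g x := IsFractionRing.lift_algebraMap hg
  obtain ⟨V, hV, hmem, hval⟩ := exists_valuationSubring_comap F
  have hA' : ∀ a : A, algebraMap R (FractionRing R) (f (algebraMap S B (algebraMap A S a))) =
      F (algebraMap A L a) := fun a ↦ (hF (algebraMap A S a)).symm
  have hlt : ∀ a ∈ maximalIdeal A, V.valuation (algebraMap A L a) < 1 := fun a ha ↦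
    hval _ _ (hA' a) (((IsLocalRing.local_hom_TFAE f).out 0 2 rfl rfl).mp hfl (Ideal.mem_map_of_mem f (hmB a ha)))
  refine ⟨V, { hV with not_a_field' := ?_ }, fun a ↦ (hmem _).mpr ⟨_, hA' a⟩, hlt⟩
  intro h
  have hm : (⟨algebraMap A L a₀, (hmem _).mpr ⟨_, hA' a₀⟩⟩ : V) ∈ maximalIdeal V :=
    (V.valuation_lt_one_iff _).mpr (hlt a₀ ha₀)
  rw [h, Submodule.mem_bot] at hm
  exact ha₀0 (hAL ((congrArg Subtype.val hm).trans (map_zero _).symm))

end Groth.Agent.ValExtLib
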