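import Mathlib
import Groth.Agent.ValExtLib.Basic
import Groth.Agent.DVRDom.Points

/-! Valuation rings of residue fields through a specialization of the image point. -/

set_option autoImplicit false

universe u

namespace Groth.Agent.ValExtLib

open CategoryTheory AlgebraicGeometry IsLocalRing

variable {X Y : Scheme.{u}} (p : X ⟶ Y) (x : X) {y' : Y} (hsp : p x ⤳ y')

/-- `O_{Y,y'} → κ(x)`. -/
noncomputable def toResidue : Y.presheaf.stalk y' ⟶ X.residueField x :=
  Y.presheaf.stalkSpecializes hsp ≫ p.stalkMap x ≫ X.residue x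

theorem spec_toResidue :
    Spec.map (toResidue p x hsp) ≫ Y.fromSpecStalk y' = X.fromSpecResidueField x ≫ p := by
  rw [toResidue, Spec.map_comp, Spec.map_comp, Category.assoc, Category.assoc,
    Scheme.SpecMap_stalkSpecializes_fromSpecStalk, Scheme.SpecMap_stalkMap_fromSpecStalk,
    Scheme.fromSpecResidueField, Category.assoc]

theorem exists_toResidue_ne_zero (hne : y' ≠ p x) :
    ∃ m ∈ maximalIdeal (Y.presheaf.stalk y'), (toResidue p x hsp).hom m ≠ 0 := by
  by_contra h
  push Not at h
  have hker : RingHom.ker (toResidue p x hsp).hom = maximalIdeal (Y.presheaf.stalk y') :=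
    le_antisymm (IsLocalRing.le_maximalIdeal (RingHom.ker_ne_top _)) h
  let z : Spec (X.residueField x) := closedPoint (X.residueField x)
  have h1 : Spec.map (toResidue p x hsp) z = closedPoint (Y.presheaf.stalk y') := by
    apply PrimeSpectrum.ext
    show (maximalIdeal (X.residueField x)).comap (toResidue p x hsp).hom = _
    rw [IsLocalRing.maximalIdeal_eq_bot, ← RingHom.ker_eq_comap_bot, hker]
    rfl
  have h2 := congrArg (Y.fromSpecStalk y') h1
  rw [← Scheme.Hom.comp_apply, spec_toResidue, Scheme.Hom.comp_apply,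
    Scheme.fromSpecResidueField_apply, Scheme.fromSpecStalk_closedPoint] at h2
  exact hne h2.symm

/-- The morphism attached to a valuation subring containing the image of `O_{Y,y'}` and dominating it. -/
theorem exists_hom (V : ValuationSubring (X.residueField x))
    (hV : ∀ a, (toResidue p x hsp).hom a ∈ V)
    (hm : ∀ a ∈ maximalIdeal (Y.presheaf.stalk y'), V.valuation ((toResidue p x hsp).hom a) < 1) :
    ∃ h : Spec (CommRingCat.of V) ⟶ Y, h (closedPoint V) = y' ∧
      Spec.map (CommRingCat.ofHom V.subtype) ≫ h = X.fromSpecResidueField x ≫ p := by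
  let g : Y.presheaf.stalk y' ⟶ CommRingCat.of V :=
    CommRingCat.ofHom ((toResidue p x hsp).hom.codRestrict V.toSubring hV)
  have : IsLocalHom g.hom := ⟨fun a ha ↦ by
    by_contra hu
    have h1 : g.hom a ∈ maximalIdeal V := (V.valuation_lt_one_iff _).mpr (hm a hu)
    exact h1 ha⟩
  refine ⟨Spec.map g ≫ Y.fromSpecStalk y', Groth.Agent.DVRDom.closedPoint_spec_comp g, ?_⟩
  rw [← Spec.map_comp_assoc, show g ≫ CommRingCat.ofHom V.subtype = toResidue p x hsp from rfl,
    spec_toResidue]

include hsp in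
theorem exists_valuationSubring (hne : y' ≠ p x) :
    ∃ (V : ValuationSubring (X.residueField x)) (h : Spec (CommRingCat.of V) ⟶ Y), V ≠ ⊤ ∧
      h (closedPoint V) = y' ∧
      Spec.map (CommRingCat.ofHom V.subtype) ≫ h = X.fromSpecResidueField x ≫ p := by
  let φ := (toResidue p x hsp).hom
  obtain ⟨V, hV⟩ := (LocalSubring.range φ).exists_le_valuationSubring
  have hVA : ∀ a, φ a ∈ V := fun a => hV.1 ⟨a, rfl⟩
  have hm : ∀ a ∈ maximalIdeal (Y.presheaf.stalk y'), V.valuation (φ a) < 1 := by
    intro a ha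
    by_contra hc
    have h1 : V.valuation (φ a) = 1 :=
      le_antisymm ((V.valuation_le_one_iff _).mpr (hVA a)) (not_lt.mp hc)
    have hu : IsUnit (⟨φ a, hVA a⟩ : V) := (V.valuation_eq_one_iff ⟨φ a, hVA a⟩).mpr h1
    have h2 : IsUnit (⟨φ a, ⟨a, rfl⟩⟩ : φ.range) := hV.2.1 _ hu
    obtain ⟨⟨_, b, rfl⟩, hb⟩ := isUnit_iff_exists_inv.mp h2
    have h3 : φ (a * b - 1) = 0 := by
      rw [map_sub, map_mul, map_one, sub_eq_zero]; exact congrArg Subtype.val hb
    have h4 : a * b - 1 ∈ maximalIdeal (Y.presheaf.stalk y') :=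
      IsLocalRing.le_maximalIdeal (RingHom.ker_ne_top φ) h3
    exact (IsLocalRing.maximalIdeal.isMaximal (Y.presheaf.stalk y')).ne_top ((Ideal.eq_top_iff_one _).mpr
      (by simpa using sub_mem (Ideal.mul_mem_right b _ ha) h4))
  obtain ⟨m, hmm, hm0⟩ := exists_toResidue_ne_zero p x hsp hne
  obtain ⟨h, h1, h2⟩ := exists_hom p x hsp V hVA hm
  refine ⟨V, h, fun htop ↦ ?_, h1, h2⟩
  have hlt := hm m hmm
  have hinv : (φ m)⁻¹ ∈ V := by rw [htop]; trivial
  have := mul_lt_one_of_lt_of_le hlt ((V.valuation_le_one_iff _).mpr hinv)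
  rw [← map_mul, mul_inv_cancel₀ hm0, map_one] at this
  exact lt_irrefl _ this

/-- Elements of `O_{Y,p x}` are fractions of elements of `O_{Y,y'}`. -/
theorem exists_frac_toResidue (o : Y.presheaf.stalk (p x)) :
    ∃ a b : Y.presheaf.stalk y', (toResidue p x hsp).hom b ≠ 0 ∧
      (p.stalkMap x ≫ X.residue x).hom o = (toResidue p x hsp).hom a / (toResidue p x hsp).hom b := by
  obtain ⟨_, ⟨U, hU, rfl⟩, hy', -⟩ :=
    Y.isBasis_affineOpens.exists_subset_of_mem_open (Set.mem_univ y') isOpen_univ
  have hy : p x ∈ U := hsp.mem_open U.isOpen hy'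
  let := (Y.presheaf.germ U (p x) hy).hom.toAlgebra
  have := hU.isLocalization_stalk ⟨p x, hy⟩
  obtain ⟨⟨a, s⟩, h⟩ := IsLocalization.surj (hU.primeIdealOf ⟨p x, hy⟩).asIdeal.primeCompl o
  have hg : ∀ c, (toResidue p x hsp).hom (Y.presheaf.germ U y' hy' c) =
      (p.stalkMap x ≫ X.residue x).hom (Y.presheaf.germ U (p x) hy c) := fun c ↦ by
    show (p.stalkMap x ≫ X.residue x).hom (Y.presheaf.stalkSpecializes hsp (Y.presheaf.germ U y' hy' c)) = _
    rw [← ConcreteCategory.comp_apply (Y.presheaf.germ U y' hy'), TopCat.Presheaf.germ_stalkSpecializes]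
  have hu : IsUnit ((p.stalkMap x ≫ X.residue x).hom (Y.presheaf.germ U (p x) hy s.1)) :=
    (IsLocalization.map_units (Y.presheaf.stalk (p x)) s).map _
  refine ⟨Y.presheaf.germ U y' hy' a, Y.presheaf.germ U y' hy' s.1, ?_, ?_⟩
  · rw [hg]; exact hu.ne_zero
  · rw [hg, hg, eq_div_iff hu.ne_zero, ← map_mul]
    exact congrArg _ h

include hsp in
theorem exists_dvr_valuationSubring [IsLocallyNoetherian Y] [LocallyOfFiniteType p] (hne : y' ≠ p x) :
    ∃ (V : ValuationSubring (X.residueField x)) (h : Spec (CommRingCat.of V) ⟶ Y), IsDiscreteValuationRing V ∧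
      h (closedPoint V) = y' ∧
      Spec.map (CommRingCat.ofHom V.subtype) ≫ h = X.fromSpecResidueField x ≫ p := by
  classical
  let φ := (toResidue p x hsp).hom
  let T := φ.range
  have : IsNoetherianRing (Y.presheaf.stalk y') := inferInstance
  have : IsNoetherianRing T := isNoetherianRing_range φ
  have : IsLocalRing T := IsLocalRing.of_surjective' φ.rangeRestrict φ.rangeRestrict_surjective
  have hmax : ∀ m ∈ maximalIdeal (Y.presheaf.stalk y'), φ.rangeRestrict m ∈ maximalIdeal T := fun m hm ↦ by
    have := IsLocalHom.of_surjective φ.rangeRestrict φ.rangeRestrict_surjective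
    exact map_nonunit φ.rangeRestrict m hm
  have hT : ¬ IsField T := fun hf ↦ by
    obtain ⟨m, hmm, hm0⟩ := exists_toResidue_ne_zero p x hsp hne
    have h0 := hmax m hmm
    rw [IsLocalRing.isField_iff_maximalIdeal_eq.mp hf, Submodule.mem_bot] at h0
    exact hm0 (congrArg Subtype.val h0)
  let K := FractionRing T
  let := (IsFractionRing.lift (A := T) (K := K) (g := T.subtype) Subtype.val_injective).toAlgebra
  let : Algebra T (X.residueField x) := T.subtype.toAlgebra
  have : IsScalarTower T K (X.residueField x) :=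
    IsScalarTower.of_algebraMap_eq fun t ↦ (IsFractionRing.lift_algebraMap _ t).symm
  have hfg : (⊤ : IntermediateField K (X.residueField x)).FG := by
    let ψ := (p.stalkMap x ≫ X.residue x).hom
    let := ψ.toAlgebra
    have : Algebra.EssFiniteType (Y.presheaf.stalk (p x)) (X.residueField x) :=
      RingHom.EssFiniteType.stableUnderComposition _ _ (LocallyOfFiniteType.stalkMap p x)
        (RingHom.FiniteType.of_surjective _ (Scheme.residue_surjective X x)).essFiniteType
    obtain ⟨s, hs⟩ := (Algebra.essFiniteType_iff (Y.presheaf.stalk (p x)) (X.residueField x)).mp this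
    refine ⟨s, eq_top_iff.mpr fun z _ ↦ ?_⟩
    obtain ⟨t, ht, htu, hzt⟩ := hs z
    have hsub : ∀ w ∈ Algebra.adjoin (Y.presheaf.stalk (p x)) (s : Set (X.residueField x)),
        w ∈ IntermediateField.adjoin K (s : Set (X.residueField x)) := fun w hw ↦ by
      induction hw using Algebra.adjoin_induction with
      | mem w hw => exact IntermediateField.subset_adjoin K _ hw
      | algebraMap o =>
        obtain ⟨a, b, -, h⟩ := exists_frac_toResidue p x hsp o
        rw [show algebraMap (Y.presheaf.stalk (p x)) (X.residueField x) o = φ a / φ b from h]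
        have hmem : ∀ c, φ c ∈ IntermediateField.adjoin K (s : Set (X.residueField x)) := fun c ↦ by
          rw [show φ c = algebraMap K (X.residueField x) (algebraMap T K (φ.rangeRestrict c)) by
            rw [← IsScalarTower.algebraMap_apply]; rfl]
          exact IntermediateField.algebraMap_mem _ _
        exact div_mem (hmem a) (hmem b)
      | add a b _ _ ha hb => exact add_mem ha hb
      | mul a b _ _ ha hb => exact mul_mem ha hb
    have := div_mem (hsub _ hzt) (hsub _ ht)
    rwa [mul_div_cancel_right₀ _ htu.ne_zero] at this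
  obtain ⟨V, hV, hVA, hVm⟩ := exists_dvr_dominating (L := X.residueField x) hT K hfg
  obtain ⟨h, h1, h2⟩ := exists_hom p x hsp V (fun a ↦ hVA (φ.rangeRestrict a))
    (fun a ha ↦ hVm _ (hmax a ha))
  exact ⟨V, h, hV, h1, h2⟩

end Groth.Agent.ValExtLib
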