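import Mathlib
import Groth.Agent.ValExtLib.Scheme
import Groth.Agent.ValCritLib.Refined
import Groth.Agent.DVRDom.Section
import Groth.Agent.UCLib.AffineSpace

/-! Valuative criteria: domination of local rings, and discrete valuation rings over noetherian bases. -/

set_option autoImplicit false
set_option backward.isDefEq.respectTransparency.types false

universe u

namespace Groth.Agent.ValExtLib

open CategoryTheory CategoryTheory.Limits AlgebraicGeometry IsLocalRing

variable {X Y : Scheme.{u}}

theorem isDominant_spec_of_injective {A B : CommRingCat.{u}} (g : A ⟶ B) (hg : Function.Injective g.hom) :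
    IsDominant (Spec.map g) :=
  ⟨PrimeSpectrum.denseRange_comap_iff_ker_le_nilRadical _ |>.mpr
    (((RingHom.injective_iff_ker_eq_bot _).mp hg).le.trans bot_le)⟩

/-- Two morphisms from the spectrum of a domain to a separated scheme agreeing on an overring are equal. -/
theorem hom_ext_of_generic [X.IsSeparated] {A B : CommRingCat.{u}} [IsDomain A] (g : A ⟶ B)
    (hg : Function.Injective g.hom) {a b : Spec A ⟶ X} (h : Spec.map g ≫ a = Spec.map g ≫ b) : a = b :=
  have := isDominant_spec_of_injective g hg
  ext_of_isDominant (Spec.map g) h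

theorem closedPoint_mem_of_isClosed {A : Type u} [CommRing A] [IsLocalRing A] {C : Set (Spec (CommRingCat.of A))}
    (hC : IsClosed C) {z : Spec (CommRingCat.of A)} (hz : z ∈ C) : closedPoint A ∈ C :=
  (IsLocalRing.specializes_closedPoint z).mem_closed hC hz

/-- A valuation ring is maximal for domination: a local homomorphism `A → B` followed by a map to `K`. -/
theorem mem_range_of_dominating {A B K : Type u} [CommRing A] [IsDomain A] [ValuationRing A] [CommRing B]
    [IsLocalRing B] [Field K] [Algebra A K] [IsFractionRing A K] (f : A →+* B) [IsLocalHom f]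
    (φ : B →+* K) (hφ : φ.comp f = algebraMap A K) (b : B) : φ b ∈ Set.range (algebraMap A K) := by
  rcases ValuationRing.isInteger_or_isInteger A (φ b) with h | ⟨a, ha⟩
  · exact h
  by_cases hu : IsUnit a
  · obtain ⟨u, rfl⟩ := hu
    refine ⟨((u⁻¹ : Aˣ) : A), ?_⟩
    rw [← inv_inv (φ b), ← ha, map_units_inv]
  · have hfa : f a ∈ maximalIdeal B := fun h ↦ hu ((isUnit_map_iff f a).mp h)
    obtain ⟨c, hc⟩ : IsUnit (1 - b * f a) :=
      IsLocalRing.isUnit_one_sub_self_of_mem_nonunits _ (Ideal.mul_mem_left _ b hfa)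
    rcases eq_or_ne (φ b) 0 with h0 | h0
    · exact ⟨0, by rw [map_zero, h0]⟩
    have h2 : φ (1 - b * f a) = 0 := by
      rw [map_sub, map_one, map_mul, show φ (f a) = algebraMap A K a from DFunLike.congr_fun hφ a, ha,
        mul_inv_cancel₀ h0, sub_self]
    exact absurd h2 ((hc ▸ c.isUnit).map φ).ne_zero

/-- A morphism from the spectrum of a valuation subring of the function field through a dominated point. -/
theorem exists_spec_of_dominated [IsIntegral X] (R : ValuationSubring X.functionField) (x : X)
    (h1 : ∀ a : X.presheaf.stalk x, algebraMap (X.presheaf.stalk x) X.functionField a ∈ R) :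
    ∃ l : Spec (CommRingCat.of R) ⟶ X,
      Spec.map (CommRingCat.ofHom R.subtype) ≫ l = X.fromSpecStalk (genericPoint X) := by
  let g : X.presheaf.stalk x ⟶ CommRingCat.of R :=
    CommRingCat.ofHom ((algebraMap (X.presheaf.stalk x) X.functionField).codRestrict R.toSubring h1)
  refine ⟨Spec.map g ≫ X.fromSpecStalk x, ?_⟩
  rw [← Spec.map_comp_assoc,
    show g ≫ CommRingCat.ofHom R.subtype = X.presheaf.stalkSpecializes (genericPoint_specializes x) from rfl]
  exact Scheme.SpecMap_stalkSpecializes_fromSpecStalk _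

/-- Conversely, a valuation-ring-valued point gives a dominated local ring. -/
theorem exists_dominated_of_spec [IsIntegral X] (R : ValuationSubring X.functionField)
    (l : Spec (CommRingCat.of R) ⟶ X)
    (hl : Spec.map (CommRingCat.ofHom R.subtype) ≫ l = X.fromSpecStalk (genericPoint X)) :
    (∀ a : X.presheaf.stalk (l (closedPoint R)),
        algebraMap (X.presheaf.stalk (l (closedPoint R))) X.functionField a ∈ R) ∧
      ∀ a ∈ maximalIdeal (X.presheaf.stalk (l (closedPoint R))),
        R.valuation (algebraMap (X.presheaf.stalk (l (closedPoint R))) X.functionField a) < 1 := by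
  obtain ⟨g, hg, hgl⟩ := Groth.Agent.DVRDom.exists_stalk_hom l rfl
  have key : g ≫ CommRingCat.ofHom R.subtype =
      X.presheaf.stalkSpecializes (genericPoint_specializes (l (closedPoint R))) :=
    Groth.Agent.DVRDom.spec_map_eq_iff _ _ (by
      rw [Spec.map_comp, Category.assoc, hgl, hl]
      exact (Scheme.SpecMap_stalkSpecializes_fromSpecStalk _).symm)
  have hk : ∀ a, ((g.hom a : R) : X.functionField) =
      algebraMap (X.presheaf.stalk (l (closedPoint R))) X.functionField a :=
    fun a ↦ ConcreteCategory.congr_hom key a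
  refine ⟨fun a ↦ hk a ▸ (g.hom a).2, fun a ha ↦ hk a ▸ (R.valuation_lt_one_iff _).mp ?_⟩
  exact map_nonunit g.hom a ha

/-- The morphism to `Y` given by domination of a local ring of `Y`. -/
theorem exists_base_of_dominated [IsIntegral X] (f : X ⟶ Y) (R : ValuationSubring X.functionField) (y : Y)
    (hy : f (genericPoint X) ⤳ y)
    (h1 : ∀ a, (Y.presheaf.stalkSpecializes hy ≫ f.stalkMap (genericPoint X)).hom a ∈ R)
    (h2 : ∀ a ∈ maximalIdeal (Y.presheaf.stalk y),
      R.valuation ((Y.presheaf.stalkSpecializes hy ≫ f.stalkMap (genericPoint X)).hom a) < 1) :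
    ∃ φ : Spec (CommRingCat.of R) ⟶ Y, φ (closedPoint R) = y ∧
      Spec.map (CommRingCat.ofHom R.subtype) ≫ φ = X.fromSpecStalk (genericPoint X) ≫ f := by
  let g : Y.presheaf.stalk y ⟶ CommRingCat.of R := CommRingCat.ofHom
    ((Y.presheaf.stalkSpecializes hy ≫ f.stalkMap (genericPoint X)).hom.codRestrict R.toSubring h1)
  have : IsLocalHom g.hom := ⟨fun a ha ↦ by
    by_contra hu
    exact ((R.valuation_lt_one_iff _).mpr (h2 a hu) : g.hom a ∈ maximalIdeal R) ha⟩
  refine ⟨Spec.map g ≫ Y.fromSpecStalk y, Groth.Agent.DVRDom.closedPoint_spec_comp g, ?_⟩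
  rw [← Spec.map_comp_assoc, show g ≫ CommRingCat.ofHom R.subtype =
      Y.presheaf.stalkSpecializes hy ≫ f.stalkMap (genericPoint X) from rfl, Spec.map_comp_assoc,
    Scheme.SpecMap_stalkSpecializes_fromSpecStalk, Scheme.SpecMap_stalkMap_fromSpecStalk]

/-- Conversely. -/
theorem exists_base_dominated_of_spec [IsIntegral X] (f : X ⟶ Y) (R : ValuationSubring X.functionField)
    (φ : Spec (CommRingCat.of R) ⟶ Y)
    (hφ : Spec.map (CommRingCat.ofHom R.subtype) ≫ φ = X.fromSpecStalk (genericPoint X) ≫ f) :
    ∃ hy : f (genericPoint X) ⤳ φ (closedPoint R),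
      (∀ a, (Y.presheaf.stalkSpecializes hy ≫ f.stalkMap (genericPoint X)).hom a ∈ R) ∧
      ∀ a ∈ maximalIdeal (Y.presheaf.stalk (φ (closedPoint R))),
        R.valuation ((Y.presheaf.stalkSpecializes hy ≫ f.stalkMap (genericPoint X)).hom a) < 1 := by
  obtain ⟨g, hg, hgl⟩ := Groth.Agent.DVRDom.exists_stalk_hom φ rfl
  have hy : f (genericPoint X) ⤳ φ (closedPoint R) := by
    have h := congrArg (fun m : Spec X.functionField ⟶ Y ↦ m (closedPoint X.functionField)) hφ
    simp only [Scheme.Hom.comp_apply, Scheme.fromSpecStalk_closedPoint] at h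
    rw [← h]
    exact (IsLocalRing.specializes_closedPoint _).map φ.continuous
  have key : g ≫ CommRingCat.ofHom R.subtype =
      Y.presheaf.stalkSpecializes hy ≫ f.stalkMap (genericPoint X) :=
    Groth.Agent.DVRDom.spec_map_eq_iff _ _ (by
      rw [Spec.map_comp, Category.assoc, hgl, hφ, Spec.map_comp_assoc,
        Scheme.SpecMap_stalkSpecializes_fromSpecStalk, Scheme.SpecMap_stalkMap_fromSpecStalk])
  have hk : ∀ a, ((g.hom a : R) : X.functionField) =
      (Y.presheaf.stalkSpecializes hy ≫ f.stalkMap (genericPoint X)).hom a :=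
    fun a ↦ ConcreteCategory.congr_hom key a
  refine ⟨hy, fun a ↦ hk a ▸ (g.hom a).2, fun a ha ↦ hk a ▸ (R.valuation_lt_one_iff _).mp ?_⟩
  exact map_nonunit g.hom a ha

theorem exists_dominated_of_universallyClosed [IsIntegral X] (f : X ⟶ Y) [UniversallyClosed f]
    (R : ValuationSubring X.functionField) (φ : Spec (CommRingCat.of R) ⟶ Y)
    (hφ : Spec.map (CommRingCat.ofHom R.subtype) ≫ φ = X.fromSpecStalk (genericPoint X) ≫ f) :
    ∃ x : X, (∀ a : X.presheaf.stalk x, algebraMap (X.presheaf.stalk x) X.functionField a ∈ R) ∧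
      ∀ a ∈ maximalIdeal (X.presheaf.stalk x),
        R.valuation (algebraMap (X.presheaf.stalk x) X.functionField a) < 1 := by
  let S : ValuativeCommSq f :=
    { R := R, K := X.functionField, i₁ := X.fromSpecStalk (genericPoint X), i₂ := φ
      commSq := ⟨hφ.symm⟩ }
  have hE : ValuativeCriterion.Existence f :=
    ((iff_of_eq (congrFun (congrFun (congrFun UniversallyClosed.eq_valuativeCriterion X) Y) f)).mp
      inferInstance).1
  obtain ⟨l, hl, -⟩ := (hE S).exists_lift.some
  exact ⟨_, exists_dominated_of_spec R l hl⟩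

/-- Valuation rings of the function field suffice to test properness. -/
theorem isProper_of_dominated [IsIntegral X] [X.IsSeparated] [Y.IsSeparated] (f : X ⟶ Y)
    [LocallyOfFiniteType f] [QuasiCompact f]
    (h : ∀ (R : ValuationSubring X.functionField), R ≠ ⊤ → ∀ φ : Spec (CommRingCat.of R) ⟶ Y,
      Spec.map (CommRingCat.ofHom R.subtype) ≫ φ = X.fromSpecStalk (genericPoint X) ≫ f →
      ∃ x : X, ∀ a : X.presheaf.stalk x, algebraMap (X.presheaf.stalk x) X.functionField a ∈ R) :
    IsProper f := by
  have : IsSeparated f :=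
    have : IsSeparated (f ≫ terminal.from Y) := by rw [terminal.comp_from]; infer_instance
    IsSeparated.of_comp f (terminal.from Y)
  let i : Spec X.functionField ⟶ X := X.fromSpecStalk (genericPoint X)
  have : QuasiCompact i := inferInstance
  have hi : DenseRange i := by
    rw [DenseRange, dense_iff_closure_eq, ← Set.univ_subset_iff]
    exact fun x _ ↦ closure_mono (Set.singleton_subset_iff.mpr
      (by rw [Scheme.range_fromSpecStalk]; exact specializes_rfl))
      (specializes_iff_mem_closure.mp (genericPoint_specializes x))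
  have Hu := Groth.Agent.ValCritLib.refined_of_isSeparated i f
  have He : Groth.Agent.ValCritLib.RefinedExistence i f := by
    intro z R φ hφ
    let β : X.functionField ⟶ (Spec X.functionField).residueField z :=
      Spec.preimage ((Spec X.functionField).fromSpecResidueField z)
    have hβ : Spec.map β = (Spec X.functionField).fromSpecResidueField z := Spec.map_preimage _
    let ρ : R.comap β.hom →+* R := (β.hom.comp (R.comap β.hom).subtype).codRestrict R.toSubring fun x ↦ x.2
    have hβs : Function.Surjective β.hom := by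
      have : IsClosedImmersion (Spec.map β) := by
        rw [hβ]
        refine .of_isPreimmersion _ ?_
        rw [Scheme.range_fromSpecResidueField]
        exact isClosed_singleton
      have : Surjective (Spec.map β) :=
        ⟨fun _ ↦ ⟨closedPoint ((Spec X.functionField).residueField z), (inferInstance : Subsingleton (PrimeSpectrum X.functionField)).elim _ _⟩⟩
      have := isIso_of_isClosedImmersion_of_surjective (Spec.map β)
      obtain ⟨g, hg⟩ : ∃ g, g ≫ β = 𝟙 _ := ⟨Spec.preimage (inv (Spec.map β)),
        Spec.map_injective (by rw [Spec.map_comp, Spec.map_preimage (inv (Spec.map β)), IsIso.hom_inv_id, Spec.map_id])⟩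
      exact fun a ↦ ⟨g.hom a, ConcreteCategory.congr_hom hg a⟩
    have hρ : Function.Bijective ρ := ⟨fun a b hab ↦ Subtype.ext (β.hom.injective (congrArg Subtype.val hab)),
      fun r ↦ by
        obtain ⟨a, ha⟩ := hβs r.1
        exact ⟨⟨a, by rw [ValuationSubring.mem_comap, ha]; exact r.2⟩, Subtype.ext ha⟩⟩
    let σ : CommRingCat.of R ⟶ CommRingCat.of (R.comap β.hom) :=
      CommRingCat.ofHom (RingEquiv.ofBijective ρ hρ).symm.toRingHom
    have hσρ : σ ≫ CommRingCat.ofHom ρ = 𝟙 _ := by
      ext r; exact congrArg Subtype.val ((RingEquiv.ofBijective ρ hρ).apply_symm_apply r)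
    have hρσ : CommRingCat.ofHom ρ ≫ σ = 𝟙 _ := by
      ext r; exact congrArg Subtype.val ((RingEquiv.ofBijective ρ hρ).symm_apply_apply r)
    have hβi : IsIso β := (ConcreteCategory.isIso_iff_bijective β).mpr ⟨β.hom.injective, hβs⟩
    have hsq : CommRingCat.ofHom (R.comap β.hom).subtype ≫ β =
        CommRingCat.ofHom ρ ≫ CommRingCat.ofHom R.subtype := rfl
    have hgen : Spec.map (CommRingCat.ofHom (R.comap β.hom).subtype) ≫ Spec.map σ ≫ φ = i ≫ f := by
      have hinv : Spec.map (CommRingCat.ofHom ρ) ≫ Spec.map σ = 𝟙 _ := by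
        rw [← Spec.map_comp, hσρ, Spec.map_id]
      rw [← cancel_epi (Spec.map β), ← Spec.map_comp_assoc, hsq, Spec.map_comp_assoc, reassoc_of% hinv,
        hφ, hβ]
    obtain ⟨l, hl⟩ : ∃ l : Spec (CommRingCat.of (R.comap β.hom)) ⟶ X,
        Spec.map (CommRingCat.ofHom (R.comap β.hom).subtype) ≫ l = i := by
      by_cases htop : R.comap β.hom = ⊤
      · exact exists_spec_of_dominated _ (genericPoint X) fun a ↦ by rw [htop]; trivial
      · obtain ⟨x, hx⟩ := h _ htop _ hgen
        exact exists_spec_of_dominated _ x hx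
    have hlf : l ≫ f = Spec.map σ ≫ φ :=
      hom_ext_of_generic (CommRingCat.ofHom (R.comap β.hom).subtype) Subtype.coe_injective
        (by rw [reassoc_of% hl, hgen])
    refine ⟨Spec.map (CommRingCat.ofHom ρ) ≫ l, ?_, ?_⟩
    · rw [← Spec.map_comp_assoc, ← hsq, Spec.map_comp_assoc, hl, hβ]
    · rw [Category.assoc, hlf, ← Spec.map_comp_assoc]
      rw [hσρ, Spec.map_id, Category.id_comp]
  have : UniversallyClosed f := UniversallyClosed.of_valuativeCriterion f
    (Groth.Agent.ValCritLib.existence_of_refined i f hi He Hu)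
  exact { }

/-- Over a valuation ring, closedness and separatedness give sections. -/
theorem existsUnique_section (A : Type u) [CommRing A] [IsDomain A] [ValuationRing A] (K : Type u) [Field K]
    [Algebra A K] [IsFractionRing A K] (f : X ⟶ Spec (CommRingCat.of A)) [IsSeparated f]
    (hf : IsClosedMap f.base) (x : Spec (CommRingCat.of K) ⟶ X)
    (hx : x ≫ f = Spec.map (CommRingCat.ofHom (algebraMap A K))) :
    ∃! s : Spec (CommRingCat.of A) ⟶ X, s ≫ f = 𝟙 _ ∧ Spec.map (CommRingCat.ofHom (algebraMap A K)) ≫ s = x := by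
  have : IsDominant (Spec.map (CommRingCat.ofHom (algebraMap A K))) :=
    isDominant_spec_of_injective _ (IsFractionRing.injective A K)
  refine existsUnique_of_exists_of_unique ?_ fun a b ha hb ↦
    ext_of_isDominant_of_isSeparated f (ha.1.trans hb.1.symm)
      (Spec.map (CommRingCat.ofHom (algebraMap A K))) (ha.2.trans hb.2.symm)
  let x₀ := x (closedPoint K)
  obtain ⟨x₁, hx₁, hfx₁⟩ : closedPoint A ∈ f.base '' closure {x₀} :=
    closedPoint_mem_of_isClosed (hf _ isClosed_closure) ⟨x₀, subset_closure rfl, rfl⟩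
  have hsp : x₀ ⤳ x₁ := specializes_iff_mem_closure.mpr hx₁
  let ψ : X.presheaf.stalk x₁ ⟶ CommRingCat.of K :=
    X.presheaf.stalkSpecializes hsp ≫ Scheme.stalkClosedPointTo x
  have hψ : Spec.map ψ ≫ X.fromSpecStalk x₁ = x := by
    rw [Spec.map_comp, Category.assoc, Scheme.SpecMap_stalkSpecializes_fromSpecStalk,
      Scheme.Spec_stalkClosedPointTo_fromSpecStalk]
  let α : CommRingCat.of A ⟶ X.presheaf.stalk x₁ := Spec.preimage (X.fromSpecStalk x₁ ≫ f)
  have hα : Spec.map α = X.fromSpecStalk x₁ ≫ f := Spec.map_preimage _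
  have hαψ : α ≫ ψ = CommRingCat.ofHom (algebraMap A K) := Spec.map_injective (by
    rw [Spec.map_comp, hα, ← Category.assoc, hψ, hx])
  have : IsLocalHom α.hom := by
    refine ((IsLocalRing.local_hom_TFAE α.hom).out 0 4).mpr ?_
    have : (Spec.map α) (closedPoint (X.presheaf.stalk x₁)) = closedPoint A := by
      rw [hα, Scheme.Hom.comp_apply, Scheme.fromSpecStalk_closedPoint]; exact hfx₁
    exact congrArg PrimeSpectrum.asIdeal this
  have hmem : ∀ b, ψ.hom b ∈ Set.range (algebraMap A K) :=
    mem_range_of_dominating α.hom ψ.hom (congrArg CommRingCat.Hom.hom hαψ)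
  choose θ hθ using hmem
  have hinj := IsFractionRing.injective A K
  let g : X.presheaf.stalk x₁ ⟶ CommRingCat.of A := CommRingCat.ofHom
    { toFun := θ
      map_one' := hinj ((hθ _).trans ((map_one ψ.hom).trans (map_one _).symm))
      map_mul' := fun a b ↦ hinj ((hθ _).trans ((map_mul ψ.hom a b).trans ((congr_arg₂ (· * ·) (hθ a).symm (hθ b).symm).trans (map_mul _ _ _).symm)))
      map_zero' := hinj ((hθ _).trans ((map_zero ψ.hom).trans (map_zero _).symm))
      map_add' := fun a b ↦ hinj ((hθ _).trans ((map_add ψ.hom a b).trans ((congr_arg₂ (· + ·) (hθ a).symm (hθ b).symm).trans (map_add _ _ _).symm))) }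
  have hg : g ≫ CommRingCat.ofHom (algebraMap A K) = ψ := CommRingCat.hom_ext (RingHom.ext hθ)
  refine ⟨Spec.map g ≫ X.fromSpecStalk x₁, ?_, by rw [← Spec.map_comp_assoc, hg, hψ]⟩
  rw [Category.assoc, ← hα, ← Spec.map_comp, show α ≫ g = 𝟙 _ from CommRingCat.hom_ext
    (RingHom.ext fun a ↦ hinj ((hθ _).trans (ConcreteCategory.congr_hom hαψ a))), Spec.map_id]

section Noetherian

variable [IsLocallyNoetherian Y] (f : X ⟶ Y) [LocallyOfFiniteType f]

/-- DVR points test separatedness over a locally noetherian base. -/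
theorem isSeparated_of_dvr
    (H : ∀ (A : Type u) [CommRing A] [IsDomain A] [IsDiscreteValuationRing A]
      (g₁ g₂ : Spec (CommRingCat.of A) ⟶ X), g₁ ≫ f = g₂ ≫ f →
      Spec.map (CommRingCat.ofHom (algebraMap A (FractionRing A))) ≫ g₁ =
        Spec.map (CommRingCat.ofHom (algebraMap A (FractionRing A))) ≫ g₂ → g₁ = g₂) :
    IsSeparated f := by
  have : IsLocallyNoetherian X := LocallyOfFiniteType.isLocallyNoetherian f
  have : LocallyOfFiniteType (pullback.fst f f ≫ f) := inferInstance
  have : IsLocallyNoetherian (pullback f f) := LocallyOfFiniteType.isLocallyNoetherian (pullback.fst f f ≫ f)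
  constructor
  refine .of_isPreimmersion _ ?_
  suffices hs : SpecializingMap (pullback.diagonal f) from
    ((isClosedMap_iff_specializingMap (pullback.diagonal f)).mpr hs).isClosed_range
  intro x w hw
  rcases eq_or_ne w (pullback.diagonal f x) with rfl | hne
  · exact ⟨x, specializes_rfl, rfl⟩
  obtain ⟨V, h, hV, hc, hgen⟩ := exists_dvr_valuationSubring (pullback.diagonal f) x hw hne
  let E := FractionRing.algEquiv V (X.residueField x)
  have hfr : CommRingCat.ofHom V.subtype ≫ CommRingCat.ofHom E.symm.toRingEquiv.toRingHom =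
      CommRingCat.ofHom (algebraMap V (FractionRing V)) := by
    ext v; exact E.symm.commutes v
  have e : h ≫ pullback.fst f f = h ≫ pullback.snd f f := H V _ _
    (by rw [Category.assoc, Category.assoc, pullback.condition])
    (by rw [← hfr, Spec.map_comp_assoc, Spec.map_comp_assoc, reassoc_of% hgen, reassoc_of% hgen,
      pullback.diagonal_fst, pullback.diagonal_snd])
  have hh : (h ≫ pullback.fst f f) ≫ pullback.diagonal f = h := by
    apply pullback.hom_ext
    · simp
    · rw [Category.assoc, pullback.diagonal_snd, Category.comp_id, e]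
  refine ⟨(h ≫ pullback.fst f f) (closedPoint V), ?_, ?_⟩
  · refine (pullback.diagonal f).isEmbedding.isInducing.specializes_iff.mp ?_
    rw [← Scheme.Hom.comp_apply (h ≫ pullback.fst f f) (pullback.diagonal f), hh, hc]
    exact hw
  · rw [← Scheme.Hom.comp_apply (h ≫ pullback.fst f f) (pullback.diagonal f), hh, hc]

/-- DVR points test universal closedness over a locally noetherian base. -/
theorem universallyClosed_of_dvr [QuasiCompact f]
    (H : ∀ (A : Type u) [CommRing A] [IsDomain A] [IsDiscreteValuationRing A]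
      (x : Spec (CommRingCat.of (FractionRing A)) ⟶ X) (y : Spec (CommRingCat.of A) ⟶ Y),
      x ≫ f = Spec.map (CommRingCat.ofHom (algebraMap A (FractionRing A))) ≫ y →
      ∃ l : Spec (CommRingCat.of A) ⟶ X, l ≫ f = y ∧
        Spec.map (CommRingCat.ofHom (algebraMap A (FractionRing A))) ≫ l = x) :
    UniversallyClosed f := by
  refine Groth.Agent.UCLib.universallyClosed_of_affineSpace f fun n ↦ ?_
  let π := 𝔸(ULift.{u} (Fin n); Y) ↘ Y
  let p := pullback.snd f π
  have : LocallyOfFiniteType π := inferInstance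
  have : IsLocallyNoetherian 𝔸(ULift.{u} (Fin n); Y) := LocallyOfFiniteType.isLocallyNoetherian π
  refine (isClosedMap_iff_specializingMap p).mpr fun x w hw ↦ ?_
  rcases eq_or_ne w (p x) with rfl | hne
  · exact ⟨x, specializes_rfl, rfl⟩
  obtain ⟨V, h, hV, hc, hgen⟩ := exists_dvr_valuationSubring p x hw hne
  let P := pullback f π
  let E := FractionRing.algEquiv V (P.residueField x)
  let e : P.residueField x ⟶ CommRingCat.of (FractionRing V) :=
    CommRingCat.ofHom E.symm.toRingEquiv.toRingHom
  have hfr : CommRingCat.ofHom V.subtype ≫ e = CommRingCat.ofHom (algebraMap V (FractionRing V)) := by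
    ext v; exact E.symm.commutes v
  obtain ⟨l, hl, hlg⟩ := H V (Spec.map e ≫ P.fromSpecResidueField x ≫ pullback.fst f π) (h ≫ π) (by
    rw [← hfr, Spec.map_comp_assoc, reassoc_of% hgen, Category.assoc, Category.assoc, pullback.condition])
  let L : Spec (CommRingCat.of V) ⟶ P := pullback.lift l h hl
  refine ⟨L (closedPoint V), ?_, ?_⟩
  · have hgenL : Spec.map (CommRingCat.ofHom (algebraMap V (FractionRing V))) ≫ L =
        Spec.map e ≫ P.fromSpecResidueField x := by
      apply pullback.hom_ext
      · rw [Category.assoc, Category.assoc, pullback.lift_fst, hlg]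
      · rw [Category.assoc, Category.assoc, pullback.lift_snd, ← hfr, Spec.map_comp_assoc, hgen]
    have h0 := congrArg (fun m : Spec (CommRingCat.of (FractionRing V)) ⟶ P ↦ m (closedPoint (FractionRing V))) hgenL
    simp only [Scheme.Hom.comp_apply, Scheme.fromSpecResidueField_apply] at h0
    exact (specializes_of_eq h0.symm).trans ((IsLocalRing.specializes_closedPoint _).map L.continuous)
  · show p (L (closedPoint V)) = w
    rw [← Scheme.Hom.comp_apply, pullback.lift_snd, hc]

end Noetherian

end Groth.Agent.ValExtLib
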