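import Mathlib
import Groth.Agent.ValExtLib.Basic

/-! The integral closure as an intersection of discrete valuation rings. -/

set_option autoImplicit false

universe u

namespace Groth.Agent.ValExtLib

open IsLocalRing

theorem mem_valuationSubring_of_isIntegral {A L : Type u} [CommRing A] [Field L] [Algebra A L]
    (R : ValuationSubring L) (hA : ∀ a : A, algebraMap A L a ∈ R) {x : L} (hx : IsIntegral A x) : x ∈ R := by
  let := ((algebraMap A L).codRestrict R.toSubring hA).toAlgebra
  have : IsScalarTower A R L := IsScalarTower.of_algebraMap_eq fun _ ↦ rfl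
  obtain ⟨r, hr⟩ := IsIntegrallyClosed.isIntegral_iff.mp (hx.tower_top (A := R))
  exact hr ▸ r.2

theorem exists_dvr_dominating' {B L : Type u} [CommRing B] [IsDomain B] [IsNoetherianRing B] [IsLocalRing B]
    [Field L] [Algebra B L] (hB : ¬ IsField B) (hinj : Function.Injective (algebraMap B L)) (s : Finset L)
    (hgen : ∀ G : Subfield L, (∀ b, algebraMap B L b ∈ G) → (↑s : Set L) ⊆ G → ∀ z, z ∈ G) :
    ∃ R : ValuationSubring L, IsDiscreteValuationRing R ∧ (∀ b : B, algebraMap B L b ∈ R) ∧
      ∀ b ∈ maximalIdeal B, R.valuation (algebraMap B L b) < 1 := by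
  let := (IsFractionRing.lift (A := B) (K := FractionRing B) hinj).toAlgebra
  have : IsScalarTower B (FractionRing B) L :=
    IsScalarTower.of_algebraMap_eq fun b ↦ (IsFractionRing.lift_algebraMap hinj b).symm
  refine exists_dvr_dominating hB (FractionRing B) ⟨s, eq_top_iff.mpr fun z _ ↦ ?_⟩
  refine hgen (IntermediateField.adjoin (FractionRing B) (s : Set L)).toSubfield (fun b ↦ ?_)
    (IntermediateField.subset_adjoin _ _) z
  rw [IsScalarTower.algebraMap_apply B (FractionRing B) L]
  exact IntermediateField.algebraMap_mem _ _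

theorem exists_dvr_notMem {A L : Type u} [CommRing A] [IsDomain A] [IsNoetherianRing A] [Field L]
    [Algebra A L] (K : Type u) [Field K] [Algebra A K] [IsFractionRing A K] [Algebra K L]
    [IsScalarTower A K L] (hfg : (⊤ : IntermediateField K L).FG) {x : L} (hx : ¬ IsIntegral A x) :
    ∃ R : ValuationSubring L, IsDiscreteValuationRing R ∧ (∀ a : A, algebraMap A L a ∈ R) ∧ x ∉ R := by
  classical
  have hx0 : x ≠ 0 := fun h ↦ hx (h ▸ isIntegral_zero)
  let C := (integralClosure A L).toSubring
  have : IsIntegrallyClosedIn C L := inferInstanceAs (IsIntegrallyClosedIn (integralClosure A L) L)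
  obtain ⟨W, hCW, hxW⟩ := Subring.exists_le_valuationSubring_of_isIntegrallyClosedIn (R := C) hx
  let S : Subalgebra A L := Algebra.adjoin A {x⁻¹}
  have hxi : x⁻¹ ∈ W := (W.mem_or_inv_mem x).resolve_left hxW
  have hSW : ∀ s : L, s ∈ S → s ∈ W := fun s hs ↦ by
    induction hs using Algebra.adjoin_induction with
    | mem z hz => rw [Set.mem_singleton_iff.mp hz]; exact hxi
    | algebraMap r => exact hCW (integralClosure A L |>.algebraMap_mem r)
    | add a b _ _ ha hb => exact add_mem ha hb
    | mul a b _ _ ha hb => exact mul_mem ha hb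
  let P : Ideal S := (maximalIdeal W).comap (S.toSubring.subtype.codRestrict W.toSubring fun s ↦ hSW s.1 s.2)
  let B := Localization.AtPrime P
  have : Algebra.FiniteType A S := (Subalgebra.fg_iff_finiteType S).mp (Subalgebra.fg_adjoin_finset {x⁻¹} |> fun h ↦ by simpa [S] using h)
  have : IsNoetherianRing S := Algebra.FiniteType.isNoetherianRing A S
  let xi : S := ⟨x⁻¹, Algebra.self_mem_adjoin_singleton A x⁻¹⟩
  have hxiP : xi ∈ P := by
    show (⟨x⁻¹, hxi⟩ : W) ∈ maximalIdeal W
    rw [W.valuation_lt_one_iff]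
    by_contra h
    have h1 : W.valuation x⁻¹ = 1 := le_antisymm ((W.valuation_le_one_iff _).mpr hxi) (not_lt.mp h)
    rw [map_inv₀, inv_eq_one] at h1
    exact hxW ((W.valuation_le_one_iff _).mp h1.le)
  have : IsDomain B := IsLocalization.isDomain_localization P.primeCompl_le_nonZeroDivisors
  let g : B →+* L := IsLocalization.lift (M := P.primeCompl) (g := S.toSubring.subtype) fun s ↦
    IsUnit.mk0 _ fun h ↦ s.2 (by
      have : (s : S) = 0 := Subtype.ext h
      rw [this]; exact zero_mem _)
  let := g.toAlgebra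
  have hg : Function.Injective g := IsLocalization.lift_injective_iff _ |>.mpr fun a b ↦
    ⟨fun h ↦ congrArg Subtype.val (IsLocalization.injective B P.primeCompl_le_nonZeroDivisors h),
      fun h ↦ congrArg _ (Subtype.ext h)⟩
  have hgS : ∀ s : S, algebraMap B L (algebraMap S B s) = s.1 := fun s ↦ IsLocalization.lift_eq _ s
  obtain ⟨s, hs⟩ := hfg
  have hgen : ∀ F : Subfield L, (∀ b, algebraMap B L b ∈ F) → (↑s : Set L) ⊆ F → ∀ z, z ∈ F := by
    intro F hF hsF z
    have hA : ∀ a : A, algebraMap A L a ∈ F := fun a ↦ by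
      rw [show algebraMap A L a = algebraMap B L (algebraMap S B (algebraMap A S a)) from (hgS (algebraMap A S a)).symm]
      exact hF _
    let G : Subalgebra A L := { F.toSubring.toSubsemiring with algebraMap_mem' := hA }
    obtain ⟨a, ha, b, hb, -, rfl⟩ := exists_div_of_generators (A := A) hs G
      (fun y hy ↦ ⟨y, hsF hy, 1, one_mem F, one_ne_zero, (div_one y).symm⟩) z
    exact div_mem (show a ∈ F from ha) (show b ∈ F from hb)
  have hB : ¬ IsField B := fun hf ↦ by
    rw [IsLocalRing.isField_iff_maximalIdeal_eq] at hf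
    have h := (IsLocalization.AtPrime.to_map_mem_maximal_iff B P xi).mpr hxiP
    rw [hf, Submodule.mem_bot] at h
    have h2 := hgS xi
    rw [h, map_zero] at h2
    exact inv_ne_zero hx0 h2.symm
  obtain ⟨R, hR, hBR, hm⟩ := exists_dvr_dominating' (B := B) (L := L) hB hg s hgen
  refine ⟨R, hR, fun a ↦ ?_, fun hxR ↦ ?_⟩
  · have := hBR (algebraMap S B (algebraMap A S a))
    rwa [hgS] at this
  · have h := hm _ ((IsLocalization.AtPrime.to_map_mem_maximal_iff B P xi).mpr hxiP)
    rw [hgS] at h
    have := mul_lt_one_of_lt_of_le h ((R.valuation_le_one_iff _).mpr hxR)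
    rw [← map_mul, inv_mul_cancel₀ hx0, map_one] at this
    exact lt_irrefl _ this

end Groth.Agent.ValExtLib
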