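import Groth.Agent.ValExtLib.EssDVR
import Groth.Agent.ValExtLib.Criterion
import Groth.Agent.CommAlg6.GeomRedJapanese
import Groth.Prelude.Def_EGA4b

/-! DVR valuative criteria with rings essentially of finite type over an excellent base. -/

set_option autoImplicit false
set_option backward.isDefEq.respectTransparency.types false

universe u

namespace Groth.Agent.ValExtLib

open CategoryTheory CategoryTheory.Limits AlgebraicGeometry IsLocalRing TopologicalSpace

theorem isUniversallyJapanese_of_isExcellent (A : Type u) [CommRing A] (hA : EGA4.IsExcellent A) :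
    CAlg.IsUniversallyJapanese A := by
  obtain ⟨_, -, hG, hJ⟩ := hA
  exact Groth.Agent.CommAlg6.isUniversallyJapanese_of_isNagata_localization A
    (fun m _ => Groth.Agent.CommAlg6.isNagata_of_geomReducedFormalFibres _
      (Groth.Agent.CommAlg6.geomReducedFormalFibres_of_isGRing A hG m)) hJ

variable {X Y S : Scheme.{u}}

set_option maxHeartbeats 1600000 in
theorem exists_essDVR_point (hS : ∀ U : S.affineOpens, CAlg.IsUniversallyJapanese Γ(S, U.1))
    [IsLocallyNoetherian Y] (g : Y ⟶ S) [LocallyOfFiniteType g] (p : X ⟶ Y) [LocallyOfFiniteType p]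
    (x : X) {y' : Y} (hsp : p x ⤳ y') (hne : y' ≠ p x) :
    ∃ (R : Type u) (_ : CommRing R) (_ : IsDomain R) (_ : IsDiscreteValuationRing R)
      (h : Spec (CommRingCat.of R) ⟶ Y) (e : X.residueField x ⟶ CommRingCat.of (FractionRing R)),
      h (closedPoint R) = y' ∧
      Spec.map (CommRingCat.ofHom (algebraMap R (FractionRing R))) ≫ h =
        Spec.map e ≫ X.fromSpecResidueField x ≫ p ∧
      ∃ (U : S.affineOpens) (ψ : Γ(S, U.1) ⟶ CommRingCat.of R),
        Spec.map ψ ≫ U.2.fromSpec = h ≫ g ∧ ψ.hom.EssFiniteType := by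
  classical
  obtain ⟨_, ⟨U, hU, rfl⟩, hgU, -⟩ :=
    S.isBasis_affineOpens.exists_subset_of_mem_open (Set.mem_univ (g y')) isOpen_univ
  obtain ⟨_, ⟨W, hW, rfl⟩, hyW, hWU⟩ :=
    Y.isBasis_affineOpens.exists_subset_of_mem_open (show y' ∈ (g ⁻¹ᵁ U : Y.Opens) from hgU) (g ⁻¹ᵁ U).isOpen
  let σ : Γ(S, U) ⟶ Y.presheaf.stalk y' := g.appLE U W hWU ≫ Y.presheaf.germ W y' hyW
  have hσ : Spec.map σ ≫ hU.fromSpec = Y.fromSpecStalk y' ≫ g := by
    rw [Spec.map_comp, Category.assoc, IsAffineOpen.SpecMap_appLE_fromSpec g hU hW hWU,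
      ← Category.assoc]
    congr 1
    rw [← hW.fromSpecStalk_eq_fromSpecStalk hyW]
    rfl
  let φ := (toResidue p x hsp).hom
  let T := φ.range
  have : IsNoetherianRing (Y.presheaf.stalk y') := inferInstance
  have : IsNoetherianRing T := isNoetherianRing_range φ
  have : IsLocalRing T := IsLocalRing.of_surjective' φ.rangeRestrict φ.rangeRestrict_surjective
  have hmax : ∀ m ∈ maximalIdeal (Y.presheaf.stalk y'), φ.rangeRestrict m ∈ maximalIdeal T := fun m hm ↦ by
    have := IsLocalHom.of_surjective φ.rangeRestrict φ.rangeRestrict_surjective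
    exact map_nonunit φ.rangeRestrict m hm
  have hT : ¬ IsField T := fun hf ↦ by
    obtain ⟨m, hmm, hm0⟩ := exists_toResidue_ne_zero p x hsp hne
    have h0 := hmax m hmm
    rw [IsLocalRing.isField_iff_maximalIdeal_eq.mp hf, Submodule.mem_bot] at h0
    exact hm0 (congrArg Subtype.val h0)
  let K := FractionRing T
  let := (IsFractionRing.lift (A := T) (K := K) (g := T.subtype) Subtype.val_injective).toAlgebra
  let : Algebra T (X.residueField x) := T.subtype.toAlgebra
  have : IsScalarTower T K (X.residueField x) :=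
    IsScalarTower.of_algebraMap_eq fun t ↦ (IsFractionRing.lift_algebraMap _ t).symm
  have hfg : (⊤ : IntermediateField K (X.residueField x)).FG := by
    let ψ := (p.stalkMap x ≫ X.residue x).hom
    let := ψ.toAlgebra
    have : Algebra.EssFiniteType (Y.presheaf.stalk (p x)) (X.residueField x) :=
      RingHom.EssFiniteType.stableUnderComposition _ _ (LocallyOfFiniteType.stalkMap p x)
        (RingHom.FiniteType.of_surjective _ (Scheme.residue_surjective X x)).essFiniteType
    obtain ⟨s, hs⟩ := (Algebra.essFiniteType_iff (Y.presheaf.stalk (p x)) (X.residueField x)).mp this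
    refine ⟨s, eq_top_iff.mpr fun z _ ↦ ?_⟩
    obtain ⟨t, ht, htu, hzt⟩ := hs z
    have hsub : ∀ w ∈ Algebra.adjoin (Y.presheaf.stalk (p x)) (s : Set (X.residueField x)),
        w ∈ IntermediateField.adjoin K (s : Set (X.residueField x)) := fun w hw ↦ by
      induction hw using Algebra.adjoin_induction with
      | mem w hw => exact IntermediateField.subset_adjoin K _ hw
      | algebraMap o =>
        obtain ⟨a, b, -, h⟩ := exists_frac_toResidue p x hsp o
        rw [show algebraMap (Y.presheaf.stalk (p x)) (X.residueField x) o = φ a / φ b from h]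
        have hmem : ∀ c, φ c ∈ IntermediateField.adjoin K (s : Set (X.residueField x)) := fun c ↦ by
          rw [show φ c = algebraMap K (X.residueField x) (algebraMap T K (φ.rangeRestrict c)) by
            rw [← IsScalarTower.algebraMap_apply]; rfl]
          exact IntermediateField.algebraMap_mem _ _
        exact div_mem (hmem a) (hmem b)
      | add a b _ _ ha hb => exact add_mem ha hb
      | mul a b _ _ ha hb => exact mul_mem ha hb
    have := div_mem (hsub _ hzt) (hsub _ ht)
    rwa [mul_div_cancel_right₀ _ htu.ne_zero] at this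
  let : Algebra Γ(S, U) T := (φ.rangeRestrict.comp σ.hom).toAlgebra
  have hess : Algebra.EssFiniteType Γ(S, U) T := by
    let := (g.appLE U W hWU).hom.toAlgebra
    have : Algebra.FiniteType Γ(S, U) Γ(Y, W) := LocallyOfFiniteType.finiteType_appLE g hU hW hWU
    let := (Y.presheaf.germ W y' hyW).hom.toAlgebra
    have := hW.isLocalization_stalk ⟨y', hyW⟩
    have : Algebra.EssFiniteType Γ(Y, W) (Y.presheaf.stalk y') :=
      Algebra.EssFiniteType.of_isLocalization _ (hW.primeIdealOf ⟨y', hyW⟩).asIdeal.primeCompl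
    let : Algebra Γ(S, U) (Y.presheaf.stalk y') := σ.hom.toAlgebra
    have : IsScalarTower Γ(S, U) Γ(Y, W) (Y.presheaf.stalk y') := IsScalarTower.of_algebraMap_eq fun _ ↦ rfl
    have := Algebra.EssFiniteType.comp Γ(S, U) Γ(Y, W) (Y.presheaf.stalk y')
    let := φ.rangeRestrict.toAlgebra
    have : IsScalarTower Γ(S, U) (Y.presheaf.stalk y') T := IsScalarTower.of_algebraMap_eq fun _ ↦ rfl
    have : Algebra.FiniteType (Y.presheaf.stalk y') T :=
      RingHom.FiniteType.of_surjective φ.rangeRestrict φ.rangeRestrict_surjective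
    exact Algebra.EssFiniteType.comp Γ(S, U) (Y.presheaf.stalk y') T
  obtain ⟨R, _, _, _, iR, f, F, hfl, hfe, hfc, hF⟩ :=
    exists_essDVR_dominating (hS ⟨U, hU⟩) (L := X.residueField x) hT K hfg
  let a : Y.presheaf.stalk y' ⟶ CommRingCat.of R := CommRingCat.ofHom (f.comp φ.rangeRestrict)
  have : IsLocalHom a.hom := by
    have := IsLocalHom.of_surjective φ.rangeRestrict φ.rangeRestrict_surjective
    exact RingHom.isLocalHom_comp f φ.rangeRestrict
  refine ⟨R, inferInstance, inferInstance, inferInstance, Spec.map a ≫ Y.fromSpecStalk y', CommRingCat.ofHom F,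
    Groth.Agent.DVRDom.closedPoint_spec_comp a, ?_, ⟨U, hU⟩, CommRingCat.ofHom (algebraMap Γ(S, U) R), ?_,
    RingHom.essFiniteType_algebraMap.mpr hfe⟩
  · rw [← spec_toResidue p x hsp, ← Spec.map_comp_assoc, ← Spec.map_comp_assoc]
    congr 2
    ext c
    exact (hF (φ.rangeRestrict c)).symm
  · rw [show CommRingCat.ofHom (algebraMap Γ(S, U) R) = σ ≫ a from CommRingCat.hom_ext (RingHom.ext fun c ↦ (hfc c).symm),
      Spec.map_comp, Category.assoc, Category.assoc]
    exact congrArg (Spec.map a ≫ ·) hσ

set_option maxHeartbeats 800000 in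
/-- Over an excellent base, discrete valuation rings essentially of finite type test universal closedness. -/
theorem universallyClosed_of_essDVR (hS : ∀ U : S.affineOpens, CAlg.IsUniversallyJapanese Γ(S, U.1))
    [IsLocallyNoetherian S] (g : Y ⟶ S) [LocallyOfFiniteType g] (f : X ⟶ Y) [LocallyOfFiniteType f] [QuasiCompact f]
    (H : ∀ sq : ValuativeCommSq f, IsDiscreteValuationRing sq.R →
      (∃ (U : S.affineOpens) (φ : Γ(S, U.1) ⟶ CommRingCat.of sq.R),
        Spec.map φ ≫ U.2.fromSpec = sq.i₂ ≫ g ∧ φ.hom.EssFiniteType) → sq.commSq.HasLift) :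
    UniversallyClosed f := by
  have : IsLocallyNoetherian Y := LocallyOfFiniteType.isLocallyNoetherian g
  refine Groth.Agent.UCLib.universallyClosed_of_affineSpace f fun n ↦ ?_
  let π := 𝔸(ULift.{u} (Fin n); Y) ↘ Y
  let p := pullback.snd f π
  have : LocallyOfFiniteType π := inferInstance
  have : IsLocallyNoetherian 𝔸(ULift.{u} (Fin n); Y) := LocallyOfFiniteType.isLocallyNoetherian π
  refine (isClosedMap_iff_specializingMap p).mpr fun x w hw ↦ ?_
  rcases eq_or_ne w (p x) with rfl | hne
  · exact ⟨x, specializes_rfl, rfl⟩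
  obtain ⟨R, _, _, _, h, e, hc, hgen, U, ψ, hψ, hψe⟩ := exists_essDVR_point hS (π ≫ g) p x hw hne
  let P := pullback f π
  let sq : ValuativeCommSq f :=
    { R := R
      K := FractionRing R
      i₁ := Spec.map e ≫ P.fromSpecResidueField x ≫ pullback.fst f π
      i₂ := h ≫ π
      commSq := ⟨by rw [reassoc_of% hgen, Category.assoc, Category.assoc, pullback.condition]⟩ }
  obtain ⟨l, hlg, hl⟩ := (H sq inferInstance ⟨U, ψ, by rw [hψ, Category.assoc], hψe⟩).exists_lift.some
  let L : Spec (CommRingCat.of R) ⟶ P := pullback.lift l h hl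
  refine ⟨L (closedPoint R), ?_, ?_⟩
  · have hgenL : Spec.map (CommRingCat.ofHom (algebraMap R (FractionRing R))) ≫ L =
        Spec.map e ≫ P.fromSpecResidueField x := by
      apply pullback.hom_ext
      · rw [Category.assoc, Category.assoc, pullback.lift_fst]; exact hlg
      · rw [Category.assoc, Category.assoc, pullback.lift_snd, hgen]
    have h0 := congrArg (fun m : Spec (CommRingCat.of (FractionRing R)) ⟶ P ↦ m (closedPoint (FractionRing R))) hgenL
    simp only [Scheme.Hom.comp_apply, Scheme.fromSpecResidueField_apply] at h0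
    exact (specializes_of_eq h0.symm).trans ((IsLocalRing.specializes_closedPoint _).map L.continuous)
  · show p (L (closedPoint R)) = w
    rw [← Scheme.Hom.comp_apply, pullback.lift_snd, hc]

theorem isLocallyNoetherian_of_excellent (hS : ∀ U : S.affineOpens, EGA4.IsExcellent Γ(S, U.1)) :
    IsLocallyNoetherian S := ⟨fun U ↦ (hS U).1⟩

theorem existence_of_universallyClosed {f : X ⟶ Y} [UniversallyClosed f] (sq : ValuativeCommSq f) :
    sq.commSq.HasLift :=
  ((iff_of_eq (congrFun (congrFun (congrFun UniversallyClosed.eq_valuativeCriterion X) Y) f)).mp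
    inferInstance).1 sq

end Groth.Agent.ValExtLib
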