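import Groth.Agent.ValExtLib.Basic
import Groth.Prelude.Def_Found
import Mathlib

/-! Dominating discrete valuation rings essentially of finite type over a universally Japanese ring. -/

set_option autoImplicit false

universe u

namespace Groth.Agent.ValExtLib

open IsLocalRing

variable {C : Type u} [CommRing C]

set_option maxHeartbeats 400000 in
theorem finite_integralClosure_essFiniteType (hC : CAlg.IsUniversallyJapanese C) (T : Type u) [CommRing T]
    [IsDomain T] [Algebra C T] [Algebra.EssFiniteType C T] :
    Module.Finite T (integralClosure T (FractionRing T)) := by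
  let D := Algebra.EssFiniteType.subalgebra C T
  let M := Algebra.EssFiniteType.submonoid C T
  let K := FractionRing T
  have : IsScalarTower D T K := IsScalarTower.of_algebraMap_eq fun _ => rfl
  have : FaithfulSMul D K := (faithfulSMul_iff_algebraMap_injective D K).mpr
    ((IsFractionRing.injective T K).comp Subtype.val_injective)
  have hDK : IsFractionRing D K := IsFractionRing.of_field D K fun z => by
    obtain ⟨a, b, -, rfl⟩ := IsFractionRing.div_surjective T z
    obtain ⟨⟨a', m⟩, ha⟩ := IsLocalization.surj M a
    obtain ⟨⟨b', n⟩, hb⟩ := IsLocalization.surj M b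
    refine ⟨a' * n, b' * m, ?_⟩
    have hm := ((IsLocalization.map_units T m).map (algebraMap T K)).ne_zero
    have hn := ((IsLocalization.map_units T n).map (algebraMap T K)).ne_zero
    rw [map_mul, map_mul, IsScalarTower.algebraMap_apply D T K, IsScalarTower.algebraMap_apply D T K,
      IsScalarTower.algebraMap_apply D T K b', IsScalarTower.algebraMap_apply D T K (m : D), ← ha, ← hb, map_mul, map_mul]
    exact (fun x y p q hp hq => by rw [mul_assoc x, mul_assoc y, mul_comm q p, mul_div_mul_right _ _ (mul_ne_zero hp hq)] : ∀ x y p q : K, p ≠ 0 → q ≠ 0 → x / y = x * p * q / (y * q * p))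
      _ _ _ _ hm hn
  letI : Algebra (FractionRing D) K :=
    (IsFractionRing.lift (A := D) (K := FractionRing D) (g := algebraMap D K)
      (IsFractionRing.injective D K)).toAlgebra
  have htow : IsScalarTower D (FractionRing D) K :=
    IsScalarTower.of_algebraMap_eq fun x => (IsFractionRing.lift_algebraMap _ x).symm
  have hfd : FiniteDimensional (FractionRing D) K := by
    refine Module.Finite.of_surjective (Algebra.linearMap (FractionRing D) K) fun z => ?_
    obtain ⟨a, b, hb, rfl⟩ := IsFractionRing.div_surjective D z
    refine ⟨algebraMap D (FractionRing D) a / algebraMap D (FractionRing D) b, ?_⟩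
    rw [Algebra.linearMap_apply, map_div₀, ← IsScalarTower.algebraMap_apply, ← IsScalarTower.algebraMap_apply]
  have hfin : Module.Finite D (integralClosure D K) := hC D inferInstance K hfd
  obtain ⟨s, hs⟩ := hfin
  have hsub : ∀ e : integralClosure D K, (e : K) ∈ integralClosure T K := fun e => e.2.tower_top
  classical
  refine ⟨⟨s.image fun e : integralClosure D K => ⟨(e : K), hsub e⟩, eq_top_iff.mpr fun w _ => ?_⟩⟩
  obtain ⟨m, hm⟩ := IsIntegral.exists_multiple_integral_of_isLocalization M (w : K) w.2
  let P : Submodule T (integralClosure T K) :=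
    Submodule.span T ↑(s.image fun e : integralClosure D K => (⟨(e : K), hsub e⟩ : integralClosure T K))
  have key : ∀ e : integralClosure D K, (⟨(e : K), hsub e⟩ : integralClosure T K) ∈ P := fun e => by
    have he : e ∈ Submodule.span D (s : Set (integralClosure D K)) := hs ▸ Submodule.mem_top
    induction he using Submodule.span_induction with
    | mem x hx => exact Submodule.subset_span (Finset.mem_image_of_mem _ hx)
    | zero => exact (show (⟨((0 : integralClosure D K) : K), hsub 0⟩ : integralClosure T K) = 0 from Subtype.ext rfl) ▸ P.zero_mem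
    | add x y _ _ hx hy => exact P.add_mem hx hy
    | smul d x _ hx =>
      have : (⟨((d • x : integralClosure D K) : K), hsub _⟩ : integralClosure T K) =
          (algebraMap D T d) • (⟨(x : K), hsub x⟩ : integralClosure T K) := Subtype.ext (by
        show d • (x : K) = algebraMap D T d • (x : K)
        exact (algebraMap_smul T d (x : K)).symm)
      rw [this]
      exact P.smul_mem _ hx
  obtain ⟨v, hv⟩ := IsLocalization.map_units T m
  have h1 : algebraMap D T (m : D) • w ∈ P := by
    have h0 := key ⟨m • (w : K), hm⟩
    refine (?_ : algebraMap D T (m : D) • w = _) ▸ h0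
    exact Subtype.ext (algebraMap_smul T (m : D) (w : K))
  have h2 := P.smul_mem ((v⁻¹ : Tˣ) : T) h1
  rw [← hv] at h2
  have h3 : ((v⁻¹ : Tˣ) : T) • ((v : T) • w) = w := Subtype.ext (by
    show ((v⁻¹ : Tˣ) : T) • ((v : T) • (w : K)) = (w : K)
    rw [smul_smul, Units.inv_mul, one_smul])
  rwa [h3] at h2

set_option maxHeartbeats 800000 in
/-- The one-dimensional case. -/
theorem exists_essDVR_of_dim_one (hC : CAlg.IsUniversallyJapanese C) (T : Type u) [CommRing T] [IsDomain T]
    [IsNoetherianRing T] [IsLocalRing T] [Ring.KrullDimLE 1 T] [Algebra C T] [Algebra.EssFiniteType C T]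
    (hT : ¬ IsField T) :
    ∃ (R : Type u) (_ : CommRing R) (_ : IsDomain R) (_ : IsDiscreteValuationRing R) (_ : Algebra C R) (f : T →+* R),
      Function.Injective f ∧ IsLocalHom f ∧ Algebra.EssFiniteType C R ∧ ∀ c, f (algebraMap C T c) = algebraMap C R c := by
  let K := FractionRing T
  let W := integralClosure T K
  have : Module.Finite T W := finite_integralClosure_essFiniteType hC T
  have : IsNoetherianRing W := IsNoetherianRing.of_finite T W
  have hinj : Function.Injective (algebraMap T W) := fun a b h =>
    IsFractionRing.injective T K (congrArg Subtype.val h)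
  have : IsIntegrallyClosed W := integralClosure.isIntegrallyClosedOfFiniteExtension K
  have : Ring.DimensionLEOne W := by
    have : Ring.DimensionLEOne T := ⟨fun {p} hp0 hp => by
      rcases Ring.krullDimLE_one_iff.mp inferInstance p hp with h | h
      · rw [IsDomain.minimalPrimes_eq_singleton_bot, Set.mem_singleton_iff] at h
        exact absurd h hp0
      · exact h⟩
    infer_instance
  have : IsDedekindDomain W := { }
  have : FaithfulSMul T W := (faithfulSMul_iff_algebraMap_injective T W).mpr hinj
  obtain ⟨Q, hQ, hQm⟩ := Ideal.exists_ideal_over_maximal_of_isIntegral (S := W) (maximalIdeal T)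
    (by rw [(RingHom.injective_iff_ker_eq_bot _).mp hinj]; exact bot_le)
  have hQ0 : Q ≠ ⊥ := fun h => by
    rw [h, ← RingHom.ker_eq_comap_bot, (RingHom.injective_iff_ker_eq_bot _).mp hinj] at hQm
    exact hT (IsLocalRing.isField_iff_maximalIdeal_eq.mpr hQm.symm)
  have := hQ.isPrime
  let R := Localization.AtPrime Q
  have : IsDiscreteValuationRing R := IsLocalization.AtPrime.isDiscreteValuationRing_of_dedekind_domain W hQ0 R
  have : IsScalarTower C T W := IsScalarTower.of_algebraMap_eq fun c => Subtype.ext (IsScalarTower.algebraMap_apply C T K c)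
  have : Algebra.EssFiniteType C W := Algebra.EssFiniteType.comp C T W
  have : Algebra.EssFiniteType W R := Algebra.EssFiniteType.of_isLocalization R Q.primeCompl
  refine ⟨R, inferInstance, inferInstance, inferInstance, inferInstance, (algebraMap W R).comp (algebraMap T W), ?_,
    ⟨fun t ht => ?_⟩, Algebra.EssFiniteType.comp C W R, fun c => ?_⟩
  · exact (IsLocalization.injective R Q.primeCompl_le_nonZeroDivisors).comp hinj
  · by_contra hnu
    have hm : algebraMap T W t ∈ Q := by
      have : t ∈ maximalIdeal T := hnu
      rwa [← hQm] at this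
    exact (IsLocalization.AtPrime.to_map_mem_maximal_iff R Q (algebraMap T W t)).mpr hm ht
  · rw [RingHom.comp_apply, ← IsScalarTower.algebraMap_apply C T W, ← IsScalarTower.algebraMap_apply C W R]

set_option maxHeartbeats 800000 in
/-- A noetherian local domain essentially of finite type is dominated by such a discrete valuation ring. -/
theorem exists_essDVR (hC : CAlg.IsUniversallyJapanese C) (A : Type u) [CommRing A] [IsDomain A]
    [IsNoetherianRing A] [IsLocalRing A] [Algebra C A] [Algebra.EssFiniteType C A] (hA : ¬ IsField A) :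
    ∃ (R : Type u) (_ : CommRing R) (_ : IsDomain R) (_ : IsDiscreteValuationRing R) (_ : Algebra C R) (f : A →+* R),
      Function.Injective f ∧ IsLocalHom f ∧ Algebra.EssFiniteType C R ∧ ∀ c, f (algebraMap C A c) = algebraMap C R c := by
  classical
  let K := FractionRing A
  have hAK := IsFractionRing.injective A K
  obtain ⟨V, hV⟩ := (LocalSubring.range (algebraMap A K)).exists_le_valuationSubring
  have hVA : ∀ x : A, algebraMap A K x ∈ V := fun x => hV.1 ⟨x, rfl⟩
  have hVm : ∀ x ∈ maximalIdeal A, V.valuation (algebraMap A K x) < 1 := by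
    intro x hx
    by_contra hc
    have h1 : V.valuation (algebraMap A K x) = 1 :=
      le_antisymm ((V.valuation_le_one_iff _).mpr (hVA x)) (not_lt.mp hc)
    have hu : IsUnit (⟨algebraMap A K x, hVA x⟩ : V) := (V.valuation_eq_one_iff ⟨algebraMap A K x, hVA x⟩).mpr h1
    have h2 : IsUnit (⟨algebraMap A K x, ⟨x, rfl⟩⟩ : (algebraMap A K).range) := hV.2.1 _ hu
    obtain ⟨⟨_, y, rfl⟩, hy⟩ := isUnit_iff_exists_inv.mp h2
    refine (mem_maximalIdeal x).mp hx (isUnit_iff_exists_inv.mpr ⟨y, hAK ?_⟩)
    rw [map_mul, map_one]; exact congrArg Subtype.val hy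
  obtain ⟨s, hs⟩ := IsNoetherian.noetherian (maximalIdeal A)
  have hsne : s.Nonempty := by
    rw [Finset.nonempty_iff_ne_empty]
    intro he
    rw [he, Finset.coe_empty, Submodule.span_empty] at hs
    exact hA (IsLocalRing.isField_iff_maximalIdeal_eq.mpr hs.symm)
  obtain ⟨a, has, hmax⟩ := s.exists_max_image (fun b => V.valuation (algebraMap A K b)) hsne
  have ham : a ∈ maximalIdeal A := hs ▸ Submodule.subset_span has
  have ha0 : algebraMap A K a ≠ 0 := by
    intro h0
    apply hA
    refine IsLocalRing.isField_iff_maximalIdeal_eq.mpr (eq_bot_iff.mpr (hs ▸ Submodule.span_le.mpr fun b hb => ?_))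
    have := hmax b hb
    rw [h0, map_zero, le_zero_iff, map_eq_zero] at this
    exact hAK (by rw [this, map_zero])
  let S := Algebra.adjoin A ((s.image fun b => algebraMap A K b / algebraMap A K a : Finset K) : Set K)
  have hSV : ∀ z : K, z ∈ S → z ∈ V := by
    intro z hz
    induction hz using Algebra.adjoin_induction with
    | mem z hz =>
      obtain ⟨b, hb, rfl⟩ := Finset.mem_image.mp (Finset.mem_coe.mp hz)
      rw [← V.valuation_le_one_iff, map_div₀]
      exact div_le_one_of_le₀ (hmax b hb) zero_le
    | algebraMap r => exact hVA r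
    | add x y _ _ hx hy => exact add_mem hx hy
    | mul x y _ _ hx hy => exact mul_mem hx hy
  have : Algebra.FiniteType A S := (Subalgebra.fg_iff_finiteType S).mp (Subalgebra.fg_adjoin_finset _)
  have : IsNoetherianRing S := Algebra.FiniteType.isNoetherianRing A S
  set a' : S := algebraMap A S a with ha'
  have hinjS : Function.Injective (algebraMap A S) := fun x y h => hAK (congrArg Subtype.val h)
  have hnu : Ideal.span {a'} ≠ ⊤ := by
    rw [Ne, Ideal.span_singleton_eq_top, isUnit_iff_exists_inv]
    rintro ⟨c, hc⟩
    have h1 : algebraMap A K a * (c : K) = 1 := congrArg Subtype.val hc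
    have h2 : V.valuation (algebraMap A K a) * V.valuation (c : K) = 1 := by rw [← map_mul, h1, map_one]
    have h3 := hVm a ham
    have h4 : V.valuation (c : K) ≤ 1 := (V.valuation_le_one_iff _).mpr (hSV _ c.2)
    exact absurd h2 (ne_of_lt (lt_of_le_of_lt (mul_le_of_le_one_right' h4) h3))
  obtain ⟨P, hP⟩ := Ideal.nonempty_minimalPrimes hnu
  have := hP.1.1
  have hh : P.height ≤ 1 := Ideal.height_le_one_of_isPrincipal_of_mem_minimalPrimes _ P hP
  have haP : a' ∈ P := hP.1.2 (Ideal.mem_span_singleton_self a')
  let T := Localization.AtPrime P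
  have hdim : Ring.KrullDimLE 1 T := by
    rw [Ring.krullDimLE_iff, IsLocalization.AtPrime.ringKrullDim_eq_height P T]
    exact_mod_cast hh
  have hST : Function.Injective (algebraMap S T) := IsLocalization.injective T P.primeCompl_le_nonZeroDivisors
  have hTF : ¬ IsField T := by
    intro hf
    rw [IsLocalRing.isField_iff_maximalIdeal_eq] at hf
    have h1 : algebraMap S T a' ∈ maximalIdeal T := (IsLocalization.AtPrime.to_map_mem_maximal_iff T P a').mpr haP
    rw [hf, Submodule.mem_bot] at h1
    exact ha0 (congrArg Subtype.val ((map_eq_zero_iff _ hST).mp h1))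
  letI : Algebra C S := ((algebraMap A S).comp (algebraMap C A)).toAlgebra
  have : IsScalarTower C A S := IsScalarTower.of_algebraMap_eq fun _ => rfl
  have : Algebra.EssFiniteType C S := Algebra.EssFiniteType.comp C A S
  have : Algebra.EssFiniteType S T := Algebra.EssFiniteType.of_isLocalization T P.primeCompl
  have : Algebra.EssFiniteType C T := Algebra.EssFiniteType.comp C S T
  obtain ⟨R, _, _, _, iR, f, hf, hfl, hfe, hfc⟩ := exists_essDVR_of_dim_one hC T hTF
  refine ⟨R, inferInstance, inferInstance, inferInstance, iR, f.comp ((algebraMap S T).comp (algebraMap A S)),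
    hf.comp (hST.comp hinjS), ⟨fun x hx => ?_⟩, hfe, fun c => ?_⟩
  swap
  · rw [← hfc, RingHom.comp_apply, RingHom.comp_apply, ← IsScalarTower.algebraMap_apply C A S,
      ← IsScalarTower.algebraMap_apply C S T]
  by_contra hxu
  have hxP : algebraMap A S x ∈ P := by
    have hxm : x ∈ Submodule.span A (s : Set A) := hs ▸ hxu
    clear hx hxu
    induction hxm using Submodule.span_induction with
    | mem b hb =>
      have : algebraMap A S b = a' * ⟨algebraMap A K b / algebraMap A K a, Algebra.subset_adjoin
          (Finset.mem_coe.mpr (Finset.mem_image_of_mem _ hb))⟩ := Subtype.ext (mul_div_cancel₀ _ ha0).symm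
      rw [this]; exact P.mul_mem_right _ haP
    | zero => simp
    | add x y _ _ hx hy => rw [map_add]; exact P.add_mem hx hy
    | smul c x _ hx => rw [smul_eq_mul, map_mul]; exact P.mul_mem_left _ hx
  exact (IsLocalization.AtPrime.to_map_mem_maximal_iff T P _).mpr hxP (hfl.map_nonunit _ hx)

set_option maxHeartbeats 800000 in
/-- The version with a finitely generated field extension. -/
theorem exists_essDVR_dominating (hC : CAlg.IsUniversallyJapanese C) {A L : Type u} [CommRing A] [Field L]
    [Algebra A L] [IsDomain A] [IsNoetherianRing A] [IsLocalRing A] [Algebra C A] [Algebra.EssFiniteType C A]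
    (hA : ¬ IsField A) (K : Type u) [Field K] [Algebra A K] [IsFractionRing A K] [Algebra K L]
    [IsScalarTower A K L] (hfg : (⊤ : IntermediateField K L).FG) :
    ∃ (R : Type u) (_ : CommRing R) (_ : IsDomain R) (_ : IsDiscreteValuationRing R) (_ : Algebra C R) (f : A →+* R)
      (F : L →+* FractionRing R), IsLocalHom f ∧ Algebra.EssFiniteType C R ∧ (∀ c, f (algebraMap C A c) = algebraMap C R c) ∧
        ∀ a, F (algebraMap A L a) = algebraMap R (FractionRing R) (f a) := by
  obtain ⟨S, Q, hS, hQ, hSL, hQm⟩ := exists_model (A := A) K hfg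
  have : Algebra.FiniteType A S := (Subalgebra.fg_iff_finiteType S).mp hS
  have : IsNoetherianRing S := Algebra.FiniteType.isNoetherianRing A S
  let B := Localization.AtPrime Q
  obtain ⟨a₀, ha₀, ha₀0⟩ := Submodule.exists_mem_ne_zero_of_ne_bot
    (fun h ↦ hA (IsLocalRing.isField_iff_maximalIdeal_eq.mpr h) : maximalIdeal A ≠ ⊥)
  have hAL : Function.Injective (algebraMap A L) := by
    rw [IsScalarTower.algebraMap_eq A K L]
    exact (algebraMap K L).injective.comp (IsFractionRing.injective A K)
  have hmB : ∀ a ∈ maximalIdeal A, algebraMap S B (algebraMap A S a) ∈ maximalIdeal B := fun a ha ↦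
    (IsLocalization.AtPrime.to_map_mem_maximal_iff B Q _).mpr (by rw [← hQm] at ha; exact ha)
  have hSB : Function.Injective (algebraMap S B) := IsLocalization.injective B Q.primeCompl_le_nonZeroDivisors
  have hB : ¬ IsField B := fun hf ↦ by
    rw [IsLocalRing.isField_iff_maximalIdeal_eq] at hf
    have h := hmB a₀ ha₀
    rw [hf, Submodule.mem_bot, map_eq_zero_iff _ hSB] at h
    exact ha₀0 (hAL ((congrArg Subtype.val h).trans (map_zero _).symm))
  letI : Algebra C S := ((algebraMap A S).comp (algebraMap C A)).toAlgebra
  have : IsScalarTower C A S := IsScalarTower.of_algebraMap_eq fun _ => rfl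
  have : Algebra.EssFiniteType C S := Algebra.EssFiniteType.comp C A S
  have : Algebra.EssFiniteType S B := Algebra.EssFiniteType.of_isLocalization B Q.primeCompl
  have : Algebra.EssFiniteType C B := Algebra.EssFiniteType.comp C S B
  obtain ⟨R, _, _, _, iR, f, hf, hfl, hfe, hfc⟩ := exists_essDVR hC B hB
  let g : S →+* FractionRing R := (algebraMap R (FractionRing R)).comp (f.comp (algebraMap S B))
  have hg : Function.Injective g := (IsFractionRing.injective R _).comp (hf.comp hSB)
  refine ⟨R, inferInstance, inferInstance, inferInstance, iR, f.comp ((algebraMap S B).comp (algebraMap A S)),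
    IsFractionRing.lift hg, ⟨fun x hx ↦ ?_⟩, hfe, fun c ↦ ?_,
    fun a ↦ IsFractionRing.lift_algebraMap hg (algebraMap A S a)⟩
  swap
  · rw [← hfc, RingHom.comp_apply, RingHom.comp_apply, ← IsScalarTower.algebraMap_apply C A S,
      ← IsScalarTower.algebraMap_apply C S B]
  by_contra hxu
  exact hfl.map_nonunit _ hx |> (hmB x hxu)

end Groth.Agent.ValExtLib
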